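import Groth.Agent.L23.TwDesc.QCoh
import Groth.Agent.L23.RelGen.Glue

/-!
# Morphisms of quasi-coherent modules given on pieces
-/

universe t w v u

open CategoryTheory CategoryTheory.Limits AlgebraicGeometry Opposite TopologicalSpace

set_option backward.isDefEq.respectTransparency false
set_option backward.isDefEq.respectTransparency.types false
set_option linter.style.haveILetI false
set_option linter.unusedSectionVars false
set_option linter.unusedVariables false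

noncomputable section

namespace Groth.L23.TwDesc

open StMod
open Groth.L23.RelGen

variable {S : Scheme.{u}} {𝒱 : BasedCategory.{v, w} (Over S)}

namespace Pieces

variable (P : Pieces.{t} 𝒱) {E M : Mod 𝒱} (hM : M.IsCartesian) (hMq : M.IsLocQCoh)
include hM hMq

theorem ext_piece {x : 𝒱.obj} (hx : IsAffine (sch 𝒱 x)) {m m' : Sec M x}
    (h : ∀ (j : P.J) (α : P.o j ⟶ x), M.mapTop α m = M.mapTop α m') : m = m' := by
  haveI := hx
  obtain ⟨𝒰, -⟩ := exists_pcov (P := P) hx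
  exact 𝒰.toCover.ext hM hMq _ _ fun l => h _ _

/-- A morphism vanishing on all pieces vanishes. -/
theorem hom_eq_zero (φ : E ⟶ M) (h0 : ∀ j (m : Sec E (P.o j)), (φ.app (P.o j)).app ⊤ m = 0) : φ = 0 := by
  refine eq_zero_of_affine P.fib hM φ fun x hx m => ?_
  refine P.ext_piece hM hMq hx fun j α => ?_
  rw [Mod.mapTop_app, h0, Mod.mapTop_zero]

/-- Morphisms agreeing on all pieces are equal. -/
theorem hom_ext (φ ψ : E ⟶ M)
    (h : ∀ j (m : Sec E (P.o j)), (φ.app (P.o j)).app ⊤ m = (ψ.app (P.o j)).app ⊤ m) : φ = ψ := by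
  refine sub_eq_zero.1 (P.hom_eq_zero hM hMq _ fun j m => ?_)
  rw [sub_eq_add_neg, Mod.add_app, Mod.neg_app]
  show (φ.app (P.o j)).app ⊤ m + -((ψ.app (P.o j)).app ⊤ m) = 0
  rw [h, add_neg_cancel]

set_option maxHeartbeats 1000000 in
/-- A compatible family of linear maps on pieces comes from a morphism. -/
theorem exists_hom (θ : ∀ j, Sec E (P.o j) →ₗ[Fn (P.o j)] Sec M (P.o j))
    (hθ : ∀ ⦃j' j : P.J⦄ (β : P.o j' ⟶ P.o j) (m : Sec E (P.o j)),
      θ j' (E.mapTop β m) = M.mapTop β (θ j m)) :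
    ∃ φ : E ⟶ M, ∀ j (m : Sec E (P.o j)), (φ.app (P.o j)).app ⊤ m = θ j m := by
  let Good (x : 𝒱.obj) (m : Sec E x) (m' : Sec M x) : Prop :=
    ∀ (j : P.J) (α : P.o j ⟶ x), M.mapTop α m' = θ j (E.mapTop α m)
  have hex : ∀ x : 𝒱.obj, IsAffine (sch 𝒱 x) → ∀ m, ∃ m', Good x m m' := by
    intro x hx m
    haveI := hx
    obtain ⟨𝒰, hfin⟩ := exists_pcov (P := P) hx
    haveI : Finite 𝒰.toCover.ι := hfin
    obtain ⟨m', hm'⟩ := 𝒰.toCover.exists_glue P.fib hM hMq (fun l => θ (𝒰.j l) (E.mapTop (𝒰.map l) m))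
      (fun z hz k l p q e => by
        obtain ⟨jz, ⟨i⟩⟩ := P.lift z hz (𝒰.j k) p
        haveI := bmap_iso i
        refine P.ext_piece hM hMq hz fun j α => ?_
        rw [← Mod.mapTop_comp, ← Mod.mapTop_comp, ← hθ, ← hθ, ← Mod.mapTop_comp, ← Mod.mapTop_comp]
        exact congrArg (fun t => θ j (E.mapTop t m)) (by rw [Category.assoc, Category.assoc]; exact congrArg _ e))
    refine ⟨m', fun j α => ?_⟩
    obtain ⟨𝒵, -, h𝒵⟩ := 𝒰.exists_pullback (P.aff j) hx α
    haveI := P.aff j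
    refine 𝒵.toCover.ext hM hMq _ _ fun n => ?_
    obtain ⟨l, b, hb⟩ := h𝒵 n
    show M.mapTop (𝒵.map n) _ = M.mapTop (𝒵.map n) _
    rw [← Mod.mapTop_comp, ← hb, ← hθ, ← Mod.mapTop_comp, ← hb, Mod.mapTop_comp, Mod.mapTop_comp, hθ]
    exact congrArg _ (hm' l)
  have huniq : ∀ x, IsAffine (sch 𝒱 x) → ∀ m (m₁ m₂ : Sec M x), Good x m m₁ → Good x m m₂ → m₁ = m₂ :=
    fun x hx m m₁ m₂ h₁ h₂ => P.ext_piece hM hMq hx fun j α => (h₁ j α).trans (h₂ j α).symm
  choose L hL using hex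
  let Lx : ∀ x : 𝒱.obj, IsAffine (sch 𝒱 x) → (Sec E x →ₗ[Fn x] Sec M x) := fun x hx =>
    { toFun := L x hx
      map_add' := fun m₁ m₂ => huniq x hx _ _ _ (hL x hx (m₁ + m₂)) fun j α => by
        rw [Mod.mapTop_add, Mod.mapTop_add, map_add, hL x hx m₁, hL x hx m₂]
      map_smul' := fun r m => huniq x hx _ _ _ (hL x hx (r • m)) fun j α => by
        rw [Mod.mapTop_smul, RingHom.id_apply, Mod.mapTop_smul, map_smul, hL x hx m] }
  obtain ⟨φ, hφ⟩ := exists_hom_of_affine P.fib hM Lx (fun x' x s hx' hx m =>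
    huniq x' hx' _ _ _ (hL x' hx' _) fun j α => by
      rw [← Mod.mapTop_comp, ← Mod.mapTop_comp]
      exact hL x hx m j (α ≫ s))
  refine ⟨φ, fun j m => ?_⟩
  rw [hφ (P.o j) (P.aff j)]
  refine huniq _ (P.aff j) m _ _ (hL _ (P.aff j) m) fun j' α => ?_
  rw [hθ]

omit hM hMq

/-- A compatible family of linear bijections on pieces gives an isomorphism of quasi-coherent modules. -/
theorem nonempty_iso (E M : QCoh 𝒱) (θ : ∀ j, Sec E.obj (P.o j) ≃ₗ[Fn (P.o j)] Sec M.obj (P.o j))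
    (hθ : ∀ ⦃j' j : P.J⦄ (β : P.o j' ⟶ P.o j) (m : Sec E.obj (P.o j)),
      θ j' (E.obj.mapTop β m) = M.obj.mapTop β (θ j m)) : Nonempty (E ≅ M) := by
  obtain ⟨φ, hφ⟩ := P.exists_hom M.property.1 M.property.2 (fun j => (θ j).toLinearMap) hθ
  obtain ⟨ψ, hψ⟩ := P.exists_hom E.property.1 E.property.2 (fun j => (θ j).symm.toLinearMap) (fun j' j β m => by
    refine (θ j').injective ?_
    show θ j' ((θ j').symm _) = θ j' (E.obj.mapTop β ((θ j).symm m))
    rw [LinearEquiv.apply_symm_apply, hθ, LinearEquiv.apply_symm_apply])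
  have h₁ : φ ≫ ψ = 𝟙 E.obj := P.hom_ext E.property.1 E.property.2 _ _ fun j m => by
    show (ψ.app (P.o j)).app ⊤ ((φ.app (P.o j)).app ⊤ m) = m
    rw [hφ, hψ]
    exact (θ j).symm_apply_apply m
  have h₂ : ψ ≫ φ = 𝟙 M.obj := P.hom_ext M.property.1 M.property.2 _ _ fun j m => by
    show (φ.app (P.o j)).app ⊤ ((ψ.app (P.o j)).app ⊤ m) = m
    rw [hψ, hφ]
    exact (θ j).apply_symm_apply m
  exact ⟨ObjectProperty.isoMk _ ⟨φ, ψ, h₁, h₂⟩⟩

end Pieces

end Groth.L23.TwDesc
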