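import Groth.Agent.L23.TwDesc.Glue
import Groth.Agent.L23.RelGen.FamAffineBC

/-!
# Base change of families
-/

universe t w v u

open CategoryTheory CategoryTheory.Limits AlgebraicGeometry Opposite TopologicalSpace
open scoped TensorProduct

set_option backward.isDefEq.respectTransparency false
set_option backward.isDefEq.respectTransparency.types false
set_option linter.style.haveILetI false
set_option linter.unusedSectionVars false
set_option linter.unusedVariables false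

noncomputable section

namespace Groth.L23.TwDesc

open StMod
open Groth.L23.RelGen
open Groth.L23.RelGen.PB (fnMap_comp_apply flat_fnMap)

variable {S : Scheme.{u}} {𝒱 : BasedCategory.{v, w} (Over S)}

namespace PDatum

variable {D : PDatum.{t} 𝒱}

/-- Evaluation as a linear map. -/
theorem exists_evLin {x : 𝒱.obj} {j : D.J} (c : D.o j ⟶ x) :
    letI : Module (Fn x) (D.M j) := Module.compHom _ (fnMap c)
    ∃ L : Sec D.toMod x →ₗ[Fn x] D.M j, ∀ s, L s = D.evG c s := by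
  letI : Module (Fn x) (D.M j) := Module.compHom _ (fnMap c)
  exact ⟨{ toFun := D.evG c, map_add' := evG_add c, map_smul' := fun r s => evG_smul c r s }, fun _ => rfl⟩

/-- Restriction as a linear map. -/
theorem exists_TLin {x : 𝒱.obj} {q a : D.J} (k : D.o q ⟶ D.o a) (d : D.o a ⟶ x) (g : D.o q ⟶ x) (hg : k ≫ d = g) :
    letI : Module (Fn x) (D.M a) := Module.compHom _ (fnMap d)
    letI : Module (Fn x) (D.M q) := Module.compHom _ (fnMap g)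
    ∃ L : D.M a →ₗ[Fn x] D.M q, ∀ m, L m = D.T k m := by
  letI : Module (Fn x) (D.M a) := Module.compHom _ (fnMap d)
  letI : Module (Fn x) (D.M q) := Module.compHom _ (fnMap g)
  refine ⟨{ toFun := D.T k, map_add' := map_add _, map_smul' := fun r m => ?_ }, fun _ => rfl⟩
  refine ((D.T k).map_smulₛₗ (fnMap d r) m).trans ?_
  refine congrArg (fun a : Fn (D.o q) => a • _) ?_
  rw [← hg]
  exact (fnMap_comp_apply k d r).symm

/-- Base change of restrictions. -/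
theorem bc_T {x v : 𝒱.obj} {a q Qa Qq : D.J} [IsAffine (sch 𝒱 x)] (c : v ⟶ x) {d : D.o a ⟶ x} {g : D.o q ⟶ x}
    (k : D.o q ⟶ D.o a) (a₁ : D.o Qa ⟶ v) (b₁ : D.o Qa ⟶ D.o a) (a₂ : D.o Qq ⟶ v) (b₂ : D.o Qq ⟶ D.o q)
    (s : D.o Qq ⟶ D.o Qa) (hs₁ : s ≫ a₁ = a₂) (hs₂ : s ≫ b₁ = b₂ ≫ k) :
    letI := (fnMap c).toAlgebra
    letI : Module (Fn x) (D.M a) := Module.compHom _ (fnMap d)
    letI : Module (Fn x) (D.M q) := Module.compHom _ (fnMap g)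
    ∀ (L : D.M a →ₗ[Fn x] D.M q), (∀ m, L m = D.T k m) →
    ∀ (E₁ : Fn v ⊗[Fn x] D.M a ≃+ D.M Qa), (∀ r m, E₁ (r ⊗ₜ m) = fnMap a₁ r • D.T b₁ m) →
    ∀ (E₂ : Fn v ⊗[Fn x] D.M q ≃+ D.M Qq), (∀ r m, E₂ (r ⊗ₜ m) = fnMap a₂ r • D.T b₂ m) →
    ∀ t, E₂ (L.lTensor (Fn v) t) = D.T s (E₁ t) := by
  letI := (fnMap c).toAlgebra
  letI : Module (Fn x) (D.M a) := Module.compHom _ (fnMap d)
  letI : Module (Fn x) (D.M q) := Module.compHom _ (fnMap g)
  intro L hL E₁ hE₁ E₂ hE₂ t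
  induction t using TensorProduct.induction_on with
  | zero => rw [map_zero, map_zero, map_zero, map_zero]
  | tmul r m =>
    rw [LinearMap.lTensor_tmul, hE₂, hE₁, hL, LinearMap.map_smulₛₗ, D.T_comp, D.T_comp, D.T_congr hs₂]
    refine congrArg (fun a : Fn (D.o Qq) => a • _) ?_
    rw [← hs₁]
    exact fnMap_comp_apply s a₁ r
  | add t t' h h' => rw [map_add, map_add, map_add, h, h', map_add]

/-- The value of a base change on a piece. -/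
theorem bc_ev {x : 𝒱.obj} {jv jl Q : D.J} [IsAffine (sch 𝒱 x)] (c : D.o jv ⟶ x) (ml : D.o jl ⟶ x)
    (a : D.o Q ⟶ D.o jv) (b : D.o Q ⟶ D.o jl) (hab : a ≫ c = b ≫ ml) :
    letI := (fnMap c).toAlgebra
    letI : Module (Fn x) (D.M jl) := Module.compHom _ (fnMap ml)
    ∀ (L : Sec D.toMod x →ₗ[Fn x] D.M jl), (∀ s, L s = D.evG ml s) →
    ∀ (E : Fn (D.o jv) ⊗[Fn x] D.M jl ≃+ D.M Q), (∀ r m, E (r ⊗ₜ m) = fnMap a r • D.T b m) →
    ∀ (Φ : Fn (D.o jv) ⊗[Fn x] Sec D.toMod x →+ D.M jv), (∀ r s, Φ (r ⊗ₜ s) = r • D.evG c s) →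
    ∀ t, D.T a (Φ t) = E (L.lTensor (Fn (D.o jv)) t) := by
  letI := (fnMap c).toAlgebra
  letI : Module (Fn x) (D.M jl) := Module.compHom _ (fnMap ml)
  intro L hL E hE Φ hΦ t
  induction t using TensorProduct.induction_on with
  | zero => rw [map_zero, map_zero, map_zero, map_zero]
  | tmul r s =>
    rw [LinearMap.lTensor_tmul, hE, hΦ, hL, LinearMap.map_smulₛₗ, evG_map a rfl, evG_map b hab.symm]
  | add t t' h h' => rw [map_add, map_add, map_add, h, h', map_add]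

theorem exists_overlaps {x : 𝒱.obj} (hx : IsAffine (sch 𝒱 x)) (𝒰 : PCov D.toPieces x) :
    ∃ (q : 𝒰.ι × 𝒰.ι → D.J) (α : ∀ k, D.o (q k) ⟶ D.o (𝒰.j k.1)) (β : ∀ k, D.o (q k) ⟶ D.o (𝒰.j k.2)),
      ∀ k, α k ≫ 𝒰.map k.1 = β k ≫ 𝒰.map k.2 ∧
        IsPullback (bmap 𝒱 (α k)) (bmap 𝒱 (β k)) (bmap 𝒱 (𝒰.map k.1)) (bmap 𝒱 (𝒰.map k.2)) := by
  choose q α β hw H using fun k : 𝒰.ι × 𝒰.ι =>
    exists_square_piece (D.aff (𝒰.j k.1)) hx (𝒰.map k.1) (𝒰.map k.2)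
  exact ⟨q, α, β, fun k => ⟨hw k, H k⟩⟩

theorem exists_squareCover {v x : 𝒱.obj} (hv : IsAffine (sch 𝒱 v)) (hx : IsAffine (sch 𝒱 x))
    (𝒰 : PCov D.toPieces x) (c : v ⟶ x) :
    ∃ (Q : 𝒰.ι → D.J) (a : ∀ l, D.o (Q l) ⟶ v) (b : ∀ l, D.o (Q l) ⟶ D.o (𝒰.j l)),
      (∀ l, a l ≫ c = b l ≫ 𝒰.map l ∧
        IsPullback (bmap 𝒱 (a l)) (bmap 𝒱 (b l)) (bmap 𝒱 c) (bmap 𝒱 (𝒰.map l))) ∧
      Groth.L19.QCohFpqc.IsCov (fun l => bmap 𝒱 (a l)) := by
  choose Q a b hw H using fun l => exists_square_piece hv hx c (𝒰.map l)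
  refine ⟨Q, a, b, fun l => ⟨hw l, H l⟩,
    ⟨fun l => MorphismProperty.of_isPullback (H l).flip (𝒰.cov.flat l), fun y => ?_⟩⟩
  obtain ⟨l, w, hw'⟩ := 𝒰.cov.surj (bmap 𝒱 c y)
  obtain ⟨p, hp₁, hp₂⟩ := Scheme.Pullback.exists_preimage_pullback y w hw'.symm
  refine ⟨l, (H l).isoPullback.inv p, ?_⟩
  rw [← Scheme.Hom.comp_apply, (H l).isoPullback_inv_fst]
  exact hp₁

set_option maxHeartbeats 1600000 in
/-- Families base change along flat morphisms to pieces. -/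
theorem exists_flatEquiv {x : 𝒱.obj} (hx : IsAffine (sch 𝒱 x)) {jv : D.J} (c : D.o jv ⟶ x) (hc : Flat (bmap 𝒱 c)) :
    letI := (fnMap c).toAlgebra
    ∃ E : Fn (D.o jv) ⊗[Fn x] Sec D.toMod x ≃+ D.M jv, ∀ r s, E (r ⊗ₜ s) = r • D.evG c s := by
  classical
  haveI := hx
  haveI := hc
  obtain ⟨𝒰, hfin⟩ := exists_pcov (P := D.toPieces) hx
  haveI := hfin
  haveI : Fintype 𝒰.ι := Fintype.ofFinite _
  obtain ⟨q, α, β, Hq⟩ := exists_overlaps hx 𝒰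
  obtain ⟨Q, a, b, HQ, hcov⟩ := exists_squareCover (D.aff jv) hx 𝒰 c
  letI := (fnMap c).toAlgebra
  haveI : Module.Flat (Fn x) (Fn (D.o jv)) := flat_fnMap c (D.aff jv) hx hc
  letI : ∀ l, Module (Fn x) (D.M (𝒰.j l)) := fun l => Module.compHom _ (fnMap (𝒰.map l))
  letI : ∀ k, Module (Fn x) (D.M (q k)) := fun k => Module.compHom _ (fnMap (β k ≫ 𝒰.map k.2))
  choose EA hEA using fun l => PDatum.exists_bcSquare (D.aff jv) hx (HQ l).2
  choose Qq aq bq hwq HQq using fun k => exists_square_piece (D.aff jv) hx c (β k ≫ 𝒰.map k.2)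
  choose EB hEB using fun k => PDatum.exists_bcSquare (D := D) (jb := q k) (D.aff jv) hx (HQq k)
  choose s₁ hs₁ hs₁' using fun k => exists_square_lift D.fib (HQ k.1).1 (HQ k.1).2 (aq k) (bq k ≫ α k)
    (by rw [hwq k, Category.assoc, (Hq k).1])
  choose s₂ hs₂ hs₂' using fun k => exists_square_lift D.fib (HQ k.2).1 (HQ k.2).2 (aq k) (bq k ≫ β k)
    (by rw [hwq k, Category.assoc])
  choose σ hσ using fun k => exists_TLin (D := D) (α k) (𝒰.map k.1) (β k ≫ 𝒰.map k.2) (Hq k).1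
  choose τ hτ using fun k => exists_TLin (D := D) (β k) (𝒰.map k.2) (β k ≫ 𝒰.map k.2) rfl
  choose jc hjc using fun l => exists_evLin (D := D) (𝒰.map l)
  let J : Sec D.toMod x →ₗ[Fn x] ∀ l, D.M (𝒰.j l) := LinearMap.pi jc
  have hj : Function.Injective J := fun s s' e => evG_injective hx 𝒰 fun l => by
    rw [← hjc, ← hjc]
    exact congrFun e l
  have hM : ∀ t, (∀ k, σ k (t k.1) = τ k (t k.2)) ↔ t ∈ LinearMap.range J := fun t => by
    refine ⟨fun h => ?_, ?_⟩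
    · obtain ⟨s, hs⟩ := mem_range_evG hx 𝒰 q α β Hq t fun k => by rw [← hσ, ← hτ]; exact h k
      exact ⟨s, funext fun l => (hjc l s).trans (hs l)⟩
    · rintro ⟨s, rfl⟩ k
      show σ k (jc k.1 s) = τ k (jc k.2 s)
      rw [hσ, hτ, hjc, hjc, evG_map (α k) (Hq k).1, evG_map (β k) rfl]
  obtain ⟨hinj, hsurj⟩ := range_of_flat (R' := Fn (D.o jv)) EA EB J hj (fun k => k.1) (fun k => k.2) σ τ hM
    (fun k => D.T (s₁ k)) (fun k => D.T (s₂ k))
    (fun k => bc_T c (α k) (a k.1) (b k.1) (aq k) (bq k) (s₁ k) (hs₁ k) (hs₁' k) (σ k) (hσ k) (EA k.1) (hEA k.1)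
      (EB k) (hEB k))
    (fun k => bc_T c (β k) (a k.2) (b k.2) (aq k) (bq k) (s₂ k) (hs₂ k) (hs₂' k) (τ k) (hτ k) (EA k.2) (hEA k.2)
      (EB k) (hEB k))
  letI : Module (Fn x) (D.M jv) := Module.compHom _ (fnMap c)
  haveI : IsScalarTower (Fn x) (Fn (D.o jv)) (D.M jv) := IsScalarTower.of_algebraMap_smul fun _ _ => rfl
  obtain ⟨L, hL⟩ := exists_evLin (D := D) c
  let Φ : Fn (D.o jv) ⊗[Fn x] Sec D.toMod x →+ D.M jv := (L.liftBaseChange (Fn (D.o jv))).toAddMonoidHom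
  have hΦ : ∀ r s, Φ (r ⊗ₜ s) = r • D.evG c s := fun r s => by
    show (L.liftBaseChange (Fn (D.o jv))) (r ⊗ₜ s) = _
    rw [LinearMap.liftBaseChange_tmul, hL]
  have hcomp : ∀ l t, D.T (a l) (Φ t) = EA l (((LinearMap.proj l).comp J).lTensor (Fn (D.o jv)) t) :=
    fun l t => bc_ev c (𝒰.map l) (a l) (b l) (HQ l).1 (jc l) (hjc l) (EA l) (hEA l) Φ hΦ t
  let 𝒬 : PCov D.toPieces (D.o jv) := ⟨𝒰.ι, Q, a, hcov⟩
  refine ⟨AddEquiv.ofBijective Φ ⟨(injective_iff_map_eq_zero Φ).2 fun t ht => ?_, fun m => ?_⟩, hΦ⟩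
  · refine hinj t fun l => ?_
    rw [← hcomp, ht, map_zero]
  · obtain ⟨t, ht⟩ := hsurj (fun l => D.T (a l) m) fun k => by
      show D.T (s₁ k) (D.T (a k.1) m) = D.T (s₂ k) (D.T (a k.2) m)
      rw [D.T_comp, D.T_comp, D.T_congr (hs₁ k), D.T_congr (hs₂ k)]
    exact ⟨t, D.ext' 𝒬 _ _ fun l => (hcomp l t).trans (ht l)⟩

/-- Compatibility of the two base changes to a piece. -/
theorem bc_piece {x' x : 𝒱.obj} {Q : D.J} (φ : x' ⟶ x) (a : D.o Q ⟶ x') :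
    letI := (fnMap φ).toAlgebra
    letI := (fnMap a).toAlgebra
    ∀ (f : Fn x' ⊗[Fn x] Sec D.toMod x →ₗ[Fn x'] Sec D.toMod x'),
      (∀ r s, f (r ⊗ₜ s) = r • D.toMod.mapTop φ s) →
    ∀ (E₁ : Fn (D.o Q) ⊗[Fn x'] (Fn x' ⊗[Fn x] Sec D.toMod x) ≃+ D.M Q),
      (∀ b r s, E₁ (b ⊗ₜ (r ⊗ₜ s)) = (b * fnMap a r) • D.evG (a ≫ φ) s) →
    ∀ (E₂ : Fn (D.o Q) ⊗[Fn x'] Sec D.toMod x' ≃+ D.M Q),
      (∀ b s, E₂ (b ⊗ₜ s) = b • D.evG a s) →
    ∀ b n, E₂ (b ⊗ₜ f n) = E₁ (b ⊗ₜ n) := by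
  letI := (fnMap φ).toAlgebra
  letI := (fnMap a).toAlgebra
  intro f hf E₁ hE₁ E₂ hE₂ b n
  induction n using TensorProduct.induction_on with
  | zero => rw [map_zero, TensorProduct.tmul_zero, TensorProduct.tmul_zero, map_zero, map_zero]
  | tmul r s =>
    rw [hf, hE₂, hE₁, evG_smul, evG_mapTop, mul_smul]
  | add n n' h h' => rw [map_add, TensorProduct.tmul_add, TensorProduct.tmul_add, map_add, map_add, h, h']

/-- The first base change to a piece. -/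
theorem exists_pieceEquiv {x' x : 𝒱.obj} {jl Q : D.J} (hx : IsAffine (sch 𝒱 x))
    (φ : x' ⟶ x) (a : D.o Q ⟶ x') (b : D.o Q ⟶ D.o jl) (ml : D.o jl ⟶ x) (hml : Flat (bmap 𝒱 ml))
    (e : a ≫ φ = b ≫ ml) :
    letI := (fnMap φ).toAlgebra
    letI := (fnMap a).toAlgebra
    ∃ E : Fn (D.o Q) ⊗[Fn x'] (Fn x' ⊗[Fn x] Sec D.toMod x) ≃+ D.M Q,
      ∀ c r s, E (c ⊗ₜ (r ⊗ₜ s)) = (c * fnMap a r) • D.evG (a ≫ φ) s := by
  obtain ⟨E₁, hE₁⟩ := exists_flatEquiv hx ml hml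
  obtain ⟨E₂, hE₂⟩ := D.bc b
  letI := (fnMap φ).toAlgebra
  letI := (fnMap a).toAlgebra
  letI := (fnMap ml).toAlgebra
  letI := (fnMap b).toAlgebra
  have hcomm : ∀ r, fnMap a (fnMap φ r) = fnMap b (fnMap ml r) := fun r => by
    rw [← fnMap_comp_apply, ← fnMap_comp_apply, e]
  obtain ⟨E, hE⟩ := exists_bc_trans (R := Fn x) (R' := Fn x') (V := Fn (D.o jl)) (B := Fn (D.o Q)) hcomm
    (D.evG ml) E₁ hE₁ (D.T b) (fun r n => (D.T b).map_smulₛₗ r n) E₂ hE₂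
  refine ⟨E, fun c r s => ?_⟩
  rw [hE, evG_map b e.symm]
  rfl

set_option maxHeartbeats 800000 in
/-- Families base change between affine objects. -/
theorem exists_affineEquiv {x' x : 𝒱.obj} [IsAffine (sch 𝒱 x')] [IsAffine (sch 𝒱 x)] (φ : x' ⟶ x) :
    letI := (fnMap φ).toAlgebra
    ∃ E : Fn x' ⊗[Fn x] Sec D.toMod x ≃+ Sec D.toMod x', ∀ r s, E (r ⊗ₜ s) = r • D.toMod.mapTop φ s := by
  obtain ⟨𝒰, hfin⟩ := exists_pcov (P := D.toPieces) (inferInstance : IsAffine (sch 𝒱 x))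
  obtain ⟨Q, a, b, HQ, hcov⟩ := exists_squareCover (inferInstance : IsAffine (sch 𝒱 x')) inferInstance 𝒰 φ
  haveI := fun l => D.aff (Q l)
  letI := (fnMap φ).toAlgebra
  letI : ∀ l, Algebra (Fn x') (Fn (D.o (Q l))) := fun l => (fnMap (a l)).toAlgebra
  haveI : ∀ l, Module.Flat (Fn x') (Fn (D.o (Q l))) := fun l => flat_fnMap (a l) (D.aff (Q l)) inferInstance (hcov.flat l)
  letI : Module (Fn x) (Sec D.toMod x') := Module.compHom _ (fnMap φ)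
  haveI : IsScalarTower (Fn x) (Fn x') (Sec D.toMod x') := IsScalarTower.of_algebraMap_smul fun _ _ => rfl
  let L : Sec D.toMod x →ₗ[Fn x] Sec D.toMod x' :=
    { toFun := D.toMod.mapTop φ, map_add' := D.toMod.mapTop_add φ, map_smul' := D.toMod.mapTop_smul φ }
  let f := L.liftBaseChange (Fn x')
  have hf : ∀ r s, f (r ⊗ₜ s) = r • D.toMod.mapTop φ s := fun r s => LinearMap.liftBaseChange_tmul _ L r s
  choose E₁ hE₁ using fun l =>
    exists_pieceEquiv (D := D) inferInstance φ (a l) (b l) (𝒰.map l) (𝒰.cov.flat l) (HQ l).1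
  choose E₂ hE₂ using fun l => exists_flatEquiv (D := D) inferInstance (a l) (hcov.flat l)
  have hbij := bijective_of_descent (fun l => Fn (D.o (Q l)))
    (Groth.L19.QCohFpqc.IsCov.prime_lift (fun l => bmap 𝒱 (a l)) hcov) f
    (fun l => (D.M (Q l) : Type u)) E₁ E₂
    (fun l => bc_piece φ (a l) f hf (E₁ l) (hE₁ l) (E₂ l) (hE₂ l))
  exact ⟨(LinearEquiv.ofBijective f hbij).toAddEquiv, hf⟩

end PDatum

end Groth.L23.TwDesc
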