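import Groth.Agent.L23.TwDesc.Pieces
import Groth.Agent.L23.RelGen.FamBC

/-!
# Modules on pieces compatible with all morphisms between them
-/

universe t w v u

open CategoryTheory CategoryTheory.Limits AlgebraicGeometry Opposite TopologicalSpace
open scoped TensorProduct

set_option backward.isDefEq.respectTransparency false
set_option backward.isDefEq.respectTransparency.types false
set_option linter.style.haveILetI false
set_option linter.unusedSectionVars false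

noncomputable section

namespace Groth.L23.TwDesc

open StMod
open Groth.L23.RelGen

variable {S : Scheme.{u}}

/-- A module on every piece with restrictions along all morphisms of pieces. -/
structure PDatum (𝒱 : BasedCategory.{v, w} (Over S)) extends Pieces.{t} 𝒱 where
  /-- the modules -/
  M : ∀ j, ModuleCat.{u} (Fn (o j))
  /-- the restrictions -/
  T : ∀ {j' j : J} (β : o j' ⟶ o j), M j →ₛₗ[fnMap β] M j'
  T_id : ∀ (j : J) (m : M j), T (𝟙 (o j)) m = m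
  T_comp : ∀ {j'' j' j : J} (β : o j'' ⟶ o j') (γ : o j' ⟶ o j) (m : M j), T β (T γ m) = T (β ≫ γ) m
  bc : ∀ {j' j : J} (β : o j' ⟶ o j),
    letI := (fnMap β).toAlgebra
    ∃ E : Fn (o j') ⊗[Fn (o j)] M j ≃+ M j', ∀ r m, E (r ⊗ₜ m) = r • T β m

variable {𝒱 : BasedCategory.{v, w} (Over S)} {D : PDatum.{t} 𝒱}

theorem PDatum.T_congr {j' j : D.J} {β β' : D.o j' ⟶ D.o j} (h : β = β') (m : D.M j) : D.T β m = D.T β' m := by
  subst h; rfl

/-- An element killed on a covering family is zero. -/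
theorem PDatum.eq_zero {j : D.J} (𝒰 : PCov D.toPieces (D.o j)) (m : D.M j) (h0 : ∀ l, D.T (𝒰.map l) m = 0) :
    m = 0 := by
  haveI := D.aff j
  haveI := fun l => D.aff (𝒰.j l)
  letI := fun l => (fnMap (𝒰.map l)).toAlgebra
  haveI := fun l => Groth.L19.QCohFpqc.IsCov.flat_appTop (fun l => bmap 𝒱 (𝒰.map l)) 𝒰.cov l
  refine Groth.L19.QCohFpqc.eq_zero_of_forall (fun l => Fn (D.o (𝒰.j l)))
    (Groth.L19.QCohFpqc.IsCov.prime_lift (fun l => bmap 𝒱 (𝒰.map l)) 𝒰.cov) m fun l => ?_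
  obtain ⟨E, hE⟩ := D.bc (𝒰.map l)
  refine E.injective ?_
  rw [hE, h0 l, smul_zero, map_zero]

theorem PDatum.ext' {j : D.J} (𝒰 : PCov D.toPieces (D.o j)) (m m' : D.M j)
    (h0 : ∀ l, D.T (𝒰.map l) m = D.T (𝒰.map l) m') : m = m' := by
  refine sub_eq_zero.1 (D.eq_zero 𝒰 _ fun l => ?_)
  rw [map_sub, h0 l, sub_self]

/-- Base change along a square with two pieces. -/
theorem PDatum.exists_bcSquare {a x : 𝒱.obj} {q jb : D.J} (ha : IsAffine (sch 𝒱 a)) (hx : IsAffine (sch 𝒱 x))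
    {c : a ⟶ x} {d : D.o jb ⟶ x} {p₁ : D.o q ⟶ a} {p₂ : D.o q ⟶ D.o jb}
    (H : IsPullback (bmap 𝒱 p₁) (bmap 𝒱 p₂) (bmap 𝒱 c) (bmap 𝒱 d)) :
    letI := (fnMap c).toAlgebra
    letI : Module (Fn x) (D.M jb) := Module.compHom _ (fnMap d)
    ∃ E : Fn a ⊗[Fn x] D.M jb ≃+ D.M q, ∀ r m, E (r ⊗ₜ m) = fnMap p₁ r • D.T p₂ m := by
  haveI := ha
  haveI := hx
  haveI := D.aff jb
  haveI := D.aff q
  letI := (fnMap c).toAlgebra
  letI := (fnMap d).toAlgebra
  letI := (fnMap p₂).toAlgebra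
  letI := (fnMap p₁).toAlgebra
  letI : Algebra (Fn x) (Fn (D.o q)) := ((fnMap p₁).comp (fnMap c)).toAlgebra
  haveI : IsScalarTower (Fn x) (Fn a) (Fn (D.o q)) := IsScalarTower.of_algebraMap_eq fun _ => rfl
  have hsq := isPushout_appTop_of_isPullback H
  haveI : IsScalarTower (Fn x) (Fn (D.o jb)) (Fn (D.o q)) := IsScalarTower.of_algebraMap_eq fun r => by
    exact congr($(hsq.w) r)
  letI : Module (Fn x) (D.M jb) := Module.compHom _ (fnMap d)
  haveI : IsScalarTower (Fn x) (Fn (D.o jb)) (D.M jb) := IsScalarTower.of_algebraMap_smul fun _ _ => rfl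
  haveI : Algebra.IsPushout (Fn x) (Fn a) (Fn (D.o jb)) (Fn (D.o q)) := CommRingCat.isPushout_iff_isPushout.mp hsq
  obtain ⟨E, hE⟩ := D.bc p₂
  refine ⟨(Algebra.IsPushout.cancelBaseChange (Fn x) (Fn a) (Fn (D.o jb)) (Fn (D.o q)) (D.M jb)).symm.toAddEquiv.trans E,
    fun r m => ?_⟩
  show E ((Algebra.IsPushout.cancelBaseChange (Fn x) (Fn a) (Fn (D.o jb)) (Fn (D.o q)) (D.M jb)).symm (r ⊗ₜ m)) = _
  rw [Algebra.IsPushout.cancelBaseChange_symm_tmul, hE]
  rfl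

set_option maxHeartbeats 800000 in
/-- Gluing of elements along a finite covering family. -/
theorem PDatum.exists_glue {j : D.J} (𝒰 : PCov D.toPieces (D.o j)) [Finite 𝒰.ι] (y : ∀ l, D.M (𝒰.j l))
    (hy : ∀ (z : D.J) (k l : 𝒰.ι) (p : D.o z ⟶ D.o (𝒰.j k)) (q : D.o z ⟶ D.o (𝒰.j l)),
      p ≫ 𝒰.map k = q ≫ 𝒰.map l → D.T p (y k) = D.T q (y l)) :
    ∃ m : D.M j, ∀ l, D.T (𝒰.map l) m = y l := by
  classical
  haveI : Fintype 𝒰.ι := Fintype.ofFinite _
  haveI := D.aff j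
  haveI := fun l => D.aff (𝒰.j l)
  letI := fun l => (fnMap (𝒰.map l)).toAlgebra
  haveI := fun l => Groth.L19.QCohFpqc.IsCov.flat_appTop (fun l => bmap 𝒱 (𝒰.map l)) 𝒰.cov l
  letI : ∀ l, Module (Fn (D.o j)) (D.M (𝒰.j l)) := fun l => Module.compHom _ (fnMap (𝒰.map l))
  let Δ : D.M j →ₗ[Fn (D.o j)] ∀ l, D.M (𝒰.j l) :=
    LinearMap.pi fun l =>
      { toFun := D.T (𝒰.map l), map_add' := map_add _, map_smul' := (D.T (𝒰.map l)).map_smulₛₗ }
  suffices hy' : y ∈ LinearMap.range Δ by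
    obtain ⟨m, hm⟩ := hy'
    exact ⟨m, fun l => congrFun hm l⟩
  rw [← Submodule.Quotient.mk_eq_zero (LinearMap.range Δ)]
  refine Groth.L19.QCohFpqc.eq_zero_of_forall (A := Fn (D.o j)) (fun k => Fn (D.o (𝒰.j k)))
    (Groth.L19.QCohFpqc.IsCov.prime_lift (fun l => bmap 𝒱 (𝒰.map l)) 𝒰.cov)
    (Q := (∀ l, D.M (𝒰.j l)) ⧸ LinearMap.range Δ) _ fun k => ?_
  obtain ⟨Ek, hEk⟩ := D.bc (𝒰.map k)
  obtain ⟨s, hs⟩ := Ek.surjective (y k)
  have hm : Δ.lTensor (Fn (D.o (𝒰.j k))) s = (1 : Fn (D.o (𝒰.j k))) ⊗ₜ y := by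
    refine (TensorProduct.piRight (Fn (D.o j)) (Fn (D.o j)) (Fn (D.o (𝒰.j k))) fun l => D.M (𝒰.j l)).injective ?_
    funext l
    obtain ⟨q, p₁, p₂, hw, H⟩ :=
      exists_square_piece (D.aff (𝒰.j k)) (D.aff j) (𝒰.map k) (𝒰.map l)
    obtain ⟨E, hE⟩ := PDatum.exists_bcSquare (D.aff (𝒰.j k)) (D.aff j) H
    refine E.injective ?_
    have key : ∀ t, E ((TensorProduct.piRight (Fn (D.o j)) (Fn (D.o j)) (Fn (D.o (𝒰.j k))) (fun l => D.M (𝒰.j l))
        (Δ.lTensor _ t)) l) = D.T p₁ (Ek t) := fun t => by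
      induction t using TensorProduct.induction_on with
      | zero => simp only [map_zero, Pi.zero_apply]
      | tmul c m =>
        rw [LinearMap.lTensor_tmul, TensorProduct.piRight_apply, TensorProduct.piRightHom_tmul, hE, hEk,
          LinearMap.map_smulₛₗ, D.T_comp, hw]
        refine congrArg _ ?_
        show D.T p₂ (D.T (𝒰.map l) m) = _
        rw [D.T_comp]
      | add a b ha hb => simp only [map_add, Pi.add_apply, ha, hb]
    rw [key, hs, TensorProduct.piRight_apply, TensorProduct.piRightHom_tmul, hE, map_one, one_smul]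
    exact hy q k l p₁ p₂ hw
  rw [show (Submodule.Quotient.mk y : _ ⧸ LinearMap.range Δ) = (LinearMap.range Δ).mkQ y from rfl,
    ← LinearMap.lTensor_tmul, ← hm, ← LinearMap.comp_apply, ← LinearMap.lTensor_comp,
    LinearMap.range_mkQ_comp, LinearMap.lTensor_zero, LinearMap.zero_apply]

end Groth.L23.TwDesc
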