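import Groth.Agent.L23.TwDesc.Datum

/-!
# Compatible families of a datum on pieces
-/

universe t w v u

open CategoryTheory CategoryTheory.Limits AlgebraicGeometry Opposite TopologicalSpace

set_option backward.isDefEq.respectTransparency false
set_option backward.isDefEq.respectTransparency.types false
set_option linter.style.haveILetI false
set_option linter.unusedSectionVars false
set_option linter.unusedVariables false

noncomputable section

namespace Groth.L23.TwDesc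

open StMod
open Groth.L23.RelGen

variable {S : Scheme.{u}} {𝒱 : BasedCategory.{v, w} (Over S)}

namespace PDatum

variable (D : PDatum.{t} 𝒱) (x : 𝒱.obj) (U : (sch 𝒱 x).Opens)

/-- Maps from pieces landing in an open. -/
structure Idx where
  /-- the piece -/
  j : D.J
  /-- the map -/
  α : D.o j ⟶ x
  le : (⊤ : (sch 𝒱 (D.o j)).Opens) ≤ bmap 𝒱 α ⁻¹ᵁ U

/-- Families on pieces landing in an open. -/
abbrev Raw : Type (max t v u) := ∀ i : D.Idx x U, D.M i.j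

/-- Compatibility of a family. -/
def IsFamily (s : D.Raw x U) : Prop :=
  ∀ {j' j : D.J} (β : D.o j' ⟶ D.o j) {α : D.o j ⟶ x} {α' : D.o j' ⟶ x} (_ : β ≫ α = α') (e) (e'),
    D.T β (s ⟨j, α, e⟩) = s ⟨j', α', e'⟩

/-- The group of compatible families. -/
def famGroup : AddSubgroup (D.Raw x U) where
  carrier := {s | D.IsFamily x U s}
  zero_mem' := fun {j' j} β {α α'} hα e e' => map_zero _
  add_mem' := fun {a b} ha hb {j' j} β {α α'} hα e e' =>
    (map_add _ _ _).trans (congrArg₂ (· + ·) (ha β hα e e') (hb β hα e e'))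
  neg_mem' := fun {a} ha {j' j} β {α α'} hα e e' =>
    (map_neg _ _).trans (congrArg (fun m => -m) (ha β hα e e'))

/-- Compatible families. -/
abbrev Fam : Type (max t v u) := ↥(famGroup D x U)

variable {D x U}

/-- Evaluation of a family. -/
def ev (s : D.Fam x U) {j : D.J} (α : D.o j ⟶ x) (e : (⊤ : (sch 𝒱 (D.o j)).Opens) ≤ bmap 𝒱 α ⁻¹ᵁ U) : D.M j :=
  s.1 ⟨j, α, e⟩

theorem ev_map (s : D.Fam x U) {j' j : D.J} (β : D.o j' ⟶ D.o j) {α : D.o j ⟶ x} {α' : D.o j' ⟶ x}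
    (hα : β ≫ α = α') (e : (⊤ : (sch 𝒱 (D.o j)).Opens) ≤ bmap 𝒱 α ⁻¹ᵁ U)
    (e' : (⊤ : (sch 𝒱 (D.o j')).Opens) ≤ bmap 𝒱 α' ⁻¹ᵁ U) :
    D.T β (ev s α e) = ev s α' e' := s.2 β hα e e'

theorem ev_congr (s : D.Fam x U) {j : D.J} {α α' : D.o j ⟶ x} (h : α = α')
    (e : (⊤ : (sch 𝒱 (D.o j)).Opens) ≤ bmap 𝒱 α ⁻¹ᵁ U)
    (e' : (⊤ : (sch 𝒱 (D.o j)).Opens) ≤ bmap 𝒱 α' ⁻¹ᵁ U) : ev s α e = ev s α' e' := by
  subst h; rfl

theorem fam_ext {s s' : D.Fam x U} (h : ∀ (j : D.J) (α : D.o j ⟶ x) e, ev s α e = ev s' α e) : s = s' :=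
  Subtype.ext (funext fun i => h i.j i.α i.le)

/-- A function times a family. -/
def smulFam (r : Γ(sch 𝒱 x, U)) (s : D.Fam x U) : D.Fam x U :=
  ⟨fun i => (show Fn (D.o i.j) from (bmap 𝒱 i.α).appLE U ⊤ i.le r) • ev s i.α i.le,
    fun {j' j} β {α α'} hα e e' => by
      refine ((D.T β).map_smulₛₗ _ _).trans ?_
      exact congrArg₂ (fun (a : Fn (D.o j')) m => a • m) (appLE_of_comp β α α' hα e e' r) (ev_map s β hα e e')⟩

instance famModule : Module Γ(sch 𝒱 x, U) (D.Fam x U) where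
  smul := smulFam
  one_smul s := fam_ext fun j α e => by
    show (show Fn (D.o j) from (bmap 𝒱 α).appLE U ⊤ e 1) • ev s α e = _
    rw [map_one]
    exact one_smul (Fn (D.o j)) _
  mul_smul r r' s := fam_ext fun j α e => by
    show (show Fn (D.o j) from (bmap 𝒱 α).appLE U ⊤ e (r * r')) • ev s α e = _
    rw [map_mul]
    exact mul_smul (show Fn (D.o j) from (bmap 𝒱 α).appLE U ⊤ e r)
      (show Fn (D.o j) from (bmap 𝒱 α).appLE U ⊤ e r') _
  smul_zero r := fam_ext fun j α e => smul_zero (show Fn (D.o j) from (bmap 𝒱 α).appLE U ⊤ e r)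
  smul_add r s s' := fam_ext fun j α e =>
    smul_add (show Fn (D.o j) from (bmap 𝒱 α).appLE U ⊤ e r) _ _
  add_smul r r' s := fam_ext fun j α e => by
    show (show Fn (D.o j) from (bmap 𝒱 α).appLE U ⊤ e (r + r')) • ev s α e = _
    rw [map_add]
    exact add_smul (show Fn (D.o j) from (bmap 𝒱 α).appLE U ⊤ e r)
      (show Fn (D.o j) from (bmap 𝒱 α).appLE U ⊤ e r') _
  zero_smul s := fam_ext fun j α e => by
    show (show Fn (D.o j) from (bmap 𝒱 α).appLE U ⊤ e 0) • ev s α e = _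
    rw [map_zero]
    exact zero_smul (Fn (D.o j)) _

theorem ev_smul (r : Γ(sch 𝒱 x, U)) (s : D.Fam x U) {j : D.J} (α : D.o j ⟶ x)
    (e : (⊤ : (sch 𝒱 (D.o j)).Opens) ≤ bmap 𝒱 α ⁻¹ᵁ U) :
    ev (r • s) α e = (show Fn (D.o j) from (bmap 𝒱 α).appLE U ⊤ e r) • ev s α e := rfl

theorem ev_add (s s' : D.Fam x U) {j : D.J} (α : D.o j ⟶ x)
    (e : (⊤ : (sch 𝒱 (D.o j)).Opens) ≤ bmap 𝒱 α ⁻¹ᵁ U) : ev (s + s') α e = ev s α e + ev s' α e := rfl

variable (D)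

/-- Restriction of families. -/
def resFam {U V : (sch 𝒱 x).Opens} (h : V ≤ U) : D.Fam x U →+ D.Fam x V where
  toFun s := ⟨fun i => ev s i.α (i.le.trans ((bmap 𝒱 i.α).preimage_mono h)),
    fun {j' j} β {α α'} hα e e' => ev_map s β hα _ _⟩
  map_zero' := rfl
  map_add' _ _ := rfl

theorem le_of_comp {x' x : 𝒱.obj} (φ : x' ⟶ x) {g : sch 𝒱 x' ⟶ sch 𝒱 x} (hg : bmap 𝒱 φ = g)
    {U : (sch 𝒱 x).Opens} {v : 𝒱.obj} (α : v ⟶ x') (e : (⊤ : (sch 𝒱 v).Opens) ≤ bmap 𝒱 α ⁻¹ᵁ (g ⁻¹ᵁ U)) :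
    (⊤ : (sch 𝒱 v).Opens) ≤ bmap 𝒱 (α ≫ φ) ⁻¹ᵁ U := by
  subst hg
  rw [bmap_comp, Scheme.Hom.comp_preimage]
  exact e

/-- Composition of families with a morphism. -/
def mapFam {x' x : 𝒱.obj} (φ : x' ⟶ x) {g : sch 𝒱 x' ⟶ sch 𝒱 x} (hg : bmap 𝒱 φ = g) (U : (sch 𝒱 x).Opens) :
    D.Fam x U →+ D.Fam x' (g ⁻¹ᵁ U) where
  toFun s := ⟨fun i => ev s (i.α ≫ φ) (le_of_comp φ hg i.α i.le),
    fun {j' j} β {α α'} hα e e' => ev_map s β (by rw [← Category.assoc, hα]) _ _⟩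
  map_zero' := rfl
  map_add' _ _ := rfl

section Small

variable (x U)

/-- Affine opens inside an open. -/
abbrev AffIn : Type u := {W : (sch 𝒱 x).Opens // IsAffineOpen W ∧ W ≤ U}

/-- The object over an open inside. -/
def pieceObj (W : AffIn x U) : 𝒱.obj := (exists_restrict D.fib x W.1).choose

/-- The morphism from the object over an open inside. -/
def pieceMap (W : AffIn x U) : D.pieceObj x U W ⟶ x := (exists_restrict D.fib x W.1).choose_spec.choose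

theorem pieceMap_spec (W : AffIn x U) : IsOpenImmersion (bmap 𝒱 (D.pieceMap x U W)) ∧
    Set.range (bmap 𝒱 (D.pieceMap x U W)) = (W.1 : Set (sch 𝒱 x)) ∧ IsAffine (sch 𝒱 (D.pieceObj x U W)) :=
  ⟨(exists_restrict D.fib x W.1).choose_spec.choose_spec.1, (exists_restrict D.fib x W.1).choose_spec.choose_spec.2.1,
    (exists_restrict D.fib x W.1).choose_spec.choose_spec.2.2 W.2.1⟩

/-- A cover by pieces of the object over an open inside. -/
def pieceCover (W : AffIn x U) : PCov D.toPieces (D.pieceObj x U W) :=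
  (exists_pcov (P := D.toPieces) (D.pieceMap_spec x U W).2.2).choose

theorem le_piece (W : AffIn x U) (l : (D.pieceCover x U W).ι) :
    (⊤ : (sch 𝒱 (D.o ((D.pieceCover x U W).j l))).Opens) ≤
      bmap 𝒱 ((D.pieceCover x U W).map l ≫ D.pieceMap x U W) ⁻¹ᵁ U := by
  intro q _
  rw [bmap_comp]
  exact W.2.2 ((D.pieceMap_spec x U W).2.1.subset ⟨_, rfl⟩)

/-- The values on the chosen pieces. -/
def probe (s : D.Fam x U) : ∀ i : Σ W : AffIn x U, (D.pieceCover x U W).ι, D.M ((D.pieceCover x U i.1).j i.2) :=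
  fun i => ev s ((D.pieceCover x U i.1).map i.2 ≫ D.pieceMap x U i.1) (D.le_piece x U i.1 i.2)

variable {D x U}

theorem ev_zero_of_factor (s : D.Fam x U) (h0 : ∀ i, D.probe x U s i = 0) (W : AffIn x U) {j : D.J}
    (t : D.o j ⟶ D.pieceObj x U W) {α : D.o j ⟶ x}
    (ht : t ≫ D.pieceMap x U W = α) (e : (⊤ : (sch 𝒱 (D.o j)).Opens) ≤ bmap 𝒱 α ⁻¹ᵁ U) : ev s α e = 0 := by
  obtain ⟨𝒵, -, h𝒵⟩ := (D.pieceCover x U W).exists_pullback (D.aff j) (D.pieceMap_spec x U W).2.2 t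
  refine D.eq_zero 𝒵 _ fun n => ?_
  obtain ⟨l, b, hb⟩ := h𝒵 n
  have e₂ : (⊤ : (sch 𝒱 (D.o (𝒵.j n))).Opens) ≤ bmap 𝒱 (𝒵.map n ≫ α) ⁻¹ᵁ U := by
    rw [bmap_comp, Scheme.Hom.comp_preimage]
    exact le_top.trans ((bmap 𝒱 (𝒵.map n)).preimage_mono e)
  have h₁ := ev_map s (𝒵.map n) (α := α) rfl e e₂
  have h₂ := ev_map s b (α := (D.pieceCover x U W).map l ≫ D.pieceMap x U W) (α' := 𝒵.map n ≫ α)
    (by rw [← Category.assoc, hb, Category.assoc, ht]) (D.le_piece x U W l) e₂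
  have h₃ : ev s ((D.pieceCover x U W).map l ≫ D.pieceMap x U W) (D.le_piece x U W l) = 0 := h0 ⟨W, l⟩
  refine h₁.trans (h₂.symm.trans ?_)
  rw [h₃, map_zero]

theorem ev_eq_zero_of_probe (s : D.Fam x U) (h0 : ∀ i, D.probe x U s i = 0) {j : D.J} (α : D.o j ⟶ x)
    (e : (⊤ : (sch 𝒱 (D.o j)).Opens) ≤ bmap 𝒱 α ⁻¹ᵁ U) : ev s α e = 0 := by
  obtain ⟨𝒲, -, h𝒲⟩ := exists_openPCov (P := D.toPieces) (fun W : AffIn x U => bmap 𝒱 α ⁻¹ᵁ W.1) fun q => by
    have hq : bmap 𝒱 α q ∈ U := e (show q ∈ (⊤ : (sch 𝒱 (D.o j)).Opens) from trivial)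
    obtain ⟨W, hW, hqW, hWU⟩ := exists_isAffineOpen_mem_and_subset hq
    exact ⟨⟨W, hW, hWU⟩, hqW⟩
  refine D.eq_zero 𝒲 _ fun l => ?_
  obtain ⟨W, hW⟩ := h𝒲 l
  have e₁ : (⊤ : (sch 𝒱 (D.o (𝒲.j l))).Opens) ≤ bmap 𝒱 (𝒲.map l ≫ α) ⁻¹ᵁ U := by
    rw [bmap_comp, Scheme.Hom.comp_preimage]
    exact le_top.trans ((bmap 𝒱 (𝒲.map l)).preimage_mono e)
  haveI := (D.pieceMap_spec x U W).1
  obtain ⟨t, ht⟩ := exists_factor_open D.fib (𝒲.map l ≫ α) (D.pieceMap x U W) (by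
    rw [(D.pieceMap_spec x U W).2.1]
    rintro _ ⟨q, rfl⟩
    rw [bmap_comp]
    exact hW (show q ∈ (⊤ : (sch 𝒱 (D.o (𝒲.j l))).Opens) from trivial))
  exact (ev_map s (𝒲.map l) rfl e e₁).trans (ev_zero_of_factor s h0 W t ht e₁)

theorem probe_injective : Function.Injective (D.probe x U) := fun s s' hs => by
  refine fam_ext fun j α e => sub_eq_zero.1 ?_
  exact ev_eq_zero_of_probe (s - s') (fun i => sub_eq_zero.2 (congrFun hs i)) α e

instance small_fam : Small.{u} (D.Fam x U) := small_of_injective (probe_injective (D := D) (x := x) (U := U))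

end Small

end PDatum

end Groth.L23.TwDesc
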