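import Groth.Agent.L23.TwDesc.Sheaf

/-!
# Families at pieces, and gluing of families along covers by pieces
-/

universe t w v u

open CategoryTheory CategoryTheory.Limits AlgebraicGeometry Opposite TopologicalSpace

set_option backward.isDefEq.respectTransparency false
set_option backward.isDefEq.respectTransparency.types false
set_option linter.style.haveILetI false
set_option linter.unusedSectionVars false
set_option linter.unusedVariables false

noncomputable section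

namespace Groth.L23.TwDesc

open StMod
open Groth.L23.RelGen
open Groth.L23.RelGen.PB (le_top')

variable {S : Scheme.{u}} {𝒱 : BasedCategory.{v, w} (Over S)}

namespace PDatum

variable (D : PDatum.{t} 𝒱)

/-- Evaluation of global sections at a piece. -/
def evG {x : 𝒱.obj} {j : D.J} (α : D.o j ⟶ x) (s : Sec D.toMod x) : D.M j :=
  ev (D.secFam x ⊤ s) α (le_top' α)

variable {D}

theorem evG_map {x : 𝒱.obj} {j' j : D.J} (β : D.o j' ⟶ D.o j) {α : D.o j ⟶ x} {α' : D.o j' ⟶ x} (hα : β ≫ α = α')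
    (s : Sec D.toMod x) : D.T β (D.evG α s) = D.evG α' s :=
  ev_map _ β hα _ _

theorem evG_add {x : 𝒱.obj} {j : D.J} (α : D.o j ⟶ x) (s s' : Sec D.toMod x) :
    D.evG α (s + s') = D.evG α s + D.evG α s' := by
  rw [evG, map_add]; rfl

theorem evG_smul {x : 𝒱.obj} {j : D.J} (α : D.o j ⟶ x) (r : Fn x) (s : Sec D.toMod x) :
    D.evG α (r • s) = fnMap α r • D.evG α s := by
  rw [evG, (D.secFam x ⊤).map_smul, ev_smul]
  refine congrArg (fun a : Fn (D.o j) => a • _) ?_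
  show (bmap 𝒱 α).appLE ⊤ ⊤ _ r = (bmap 𝒱 α).appTop r
  rw [show (bmap 𝒱 α).appTop = (bmap 𝒱 α).appLE ⊤ ⊤ le_top from Scheme.Hom.app_eq_appLE (bmap 𝒱 α) (U := ⊤)]

theorem evG_mapTop {x' x : 𝒱.obj} (φ : x' ⟶ x) {j : D.J} (α : D.o j ⟶ x') (s : Sec D.toMod x) :
    D.evG α (D.toMod.mapTop φ s) = D.evG (α ≫ φ) s :=
  congrArg (fun t : D.Fam x' ⊤ => ev t α (le_top' α)) (D.secFam_mapTop φ s)

/-- The family with prescribed value at a piece. -/
def ofValue {j : D.J} (m : D.M j) : D.Fam (D.o j) ⊤ :=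
  ⟨fun i => D.T i.α m, fun {j' j''} β {α α'} hα e e' => (D.T_comp β α m).trans (D.T_congr hα m)⟩

theorem evG_id_bijective (j : D.J) : Function.Bijective (D.evG (𝟙 (D.o j))) := by
  refine Function.bijective_iff_has_inverse.2 ⟨fun m => (D.secFam (D.o j) ⊤).symm (ofValue m), fun s => ?_, fun m => ?_⟩
  · refine (D.secFam (D.o j) ⊤).injective ?_
    rw [LinearEquiv.apply_symm_apply]
    refine fam_ext fun j' α e => ?_
    exact evG_map α (Category.comp_id α) s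
  · show ev (D.secFam (D.o j) ⊤ ((D.secFam (D.o j) ⊤).symm (ofValue m))) (𝟙 (D.o j)) _ = m
    rw [LinearEquiv.apply_symm_apply]
    exact D.T_id j m

section Glue

variable {x : 𝒱.obj} (𝒰 : PCov D.toPieces x) (y : ∀ l, D.M (𝒰.j l))

/-- A value compatible with prescribed values on a cover. -/
def IsValC {j : D.J} (α : D.o j ⟶ x) (m : D.M j) : Prop :=
  ∀ (l : 𝒰.ι) (j' : D.J) (k : D.o j' ⟶ D.o j) (b : D.o j' ⟶ D.o (𝒰.j l)),
    b ≫ 𝒰.map l = k ≫ α → D.T k m = D.T b (y l)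

variable {𝒰 y}

theorem isValC_unique (hx : IsAffine (sch 𝒱 x)) {j : D.J} (α : D.o j ⟶ x) {m m' : D.M j}
    (h : IsValC 𝒰 y α m) (h' : IsValC 𝒰 y α m') : m = m' := by
  obtain ⟨𝒵, -, h𝒵⟩ := 𝒰.exists_pullback (D.aff j) hx α
  refine D.ext' 𝒵 _ _ fun n => ?_
  obtain ⟨l, b, hb⟩ := h𝒵 n
  exact (h l _ (𝒵.map n) b hb).trans (h' l _ (𝒵.map n) b hb).symm

variable (hc : ∀ (z : D.J) (k l : 𝒰.ι) (a : D.o z ⟶ D.o (𝒰.j k)) (b : D.o z ⟶ D.o (𝒰.j l)),
  a ≫ 𝒰.map k = b ≫ 𝒰.map l → D.T a (y k) = D.T b (y l))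
include hc

theorem exists_isValC (hx : IsAffine (sch 𝒱 x)) [Finite 𝒰.ι] {j : D.J} (α : D.o j ⟶ x) :
    ∃ m : D.M j, IsValC 𝒰 y α m := by
  obtain ⟨𝒵, hfin, h𝒵⟩ := 𝒰.exists_pullback (D.aff j) hx α
  choose li bi hbi using h𝒵
  haveI := hfin inferInstance
  obtain ⟨m, hm⟩ := D.exists_glue 𝒵 (fun n => D.T (bi n) (y (li n))) fun z n n' a b hab => by
    rw [D.T_comp, D.T_comp]
    refine hc z _ _ _ _ ?_
    rw [Category.assoc, Category.assoc, hbi, hbi, ← Category.assoc, ← Category.assoc, hab]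
  refine ⟨m, fun l j' k b e => ?_⟩
  obtain ⟨𝒴, -, h𝒴⟩ := 𝒵.exists_pullback (D.aff j') (D.aff j) k
  refine D.ext' 𝒴 _ _ fun i => ?_
  obtain ⟨n, c, hcn⟩ := h𝒴 i
  rw [D.T_comp, D.T_comp, ← D.T_congr hcn m, ← D.T_comp, hm, D.T_comp]
  refine hc _ _ _ _ _ ?_
  rw [Category.assoc, hbi, ← Category.assoc, hcn, Category.assoc, Category.assoc, e]

/-- Gluing of global sections along a finite cover by pieces. -/
theorem exists_cover_glue (hx : IsAffine (sch 𝒱 x)) [Finite 𝒰.ι] :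
    ∃ s : Sec D.toMod x, ∀ l, D.evG (𝒰.map l) s = y l := by
  choose m hm using fun p : D.Idx x ⊤ => exists_isValC hc hx p.α
  let s : D.Fam x ⊤ := ⟨m, fun {j' j} β {α α'} hα e e' => ?_⟩
  · refine ⟨(D.secFam x ⊤).symm s, fun l => ?_⟩
    show ev (D.secFam x ⊤ ((D.secFam x ⊤).symm s)) (𝒰.map l) _ = y l
    rw [LinearEquiv.apply_symm_apply]
    refine isValC_unique hx (𝒰.map l) (hm ⟨_, 𝒰.map l, le_top' _⟩) ?_
    intro l' j' k b e
    exact hc j' l l' k b e.symm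
  · refine isValC_unique hx α' ?_ (hm ⟨j', α', e'⟩)
    intro l j'' k b h
    rw [D.T_comp]
    exact hm ⟨j, α, e⟩ l j'' (k ≫ β) b (by rw [Category.assoc, hα, h])

omit hc

theorem evG_injective (hx : IsAffine (sch 𝒱 x)) (𝒰 : PCov D.toPieces x) {s s' : Sec D.toMod x}
    (h : ∀ l, D.evG (𝒰.map l) s = D.evG (𝒰.map l) s') : s = s' := by
  refine (D.secFam x ⊤).injective (fam_ext fun j α e => ?_)
  refine isValC_unique (𝒰 := 𝒰) (y := fun l => D.evG (𝒰.map l) s) hx α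
    (m := ev (D.secFam x ⊤ s) α e) (m' := ev (D.secFam x ⊤ s') α e) ?_ ?_
  · intro l j' k b he
    exact (evG_map k rfl s).trans (evG_map b he s).symm
  · intro l j' k b he
    refine ((evG_map k rfl s').trans (evG_map b he s').symm).trans ?_
    exact congrArg (D.T b) (h l).symm

theorem mem_range_evG (hx : IsAffine (sch 𝒱 x)) (𝒰 : PCov D.toPieces x) [Finite 𝒰.ι]
    (q : 𝒰.ι × 𝒰.ι → D.J) (α : ∀ k, D.o (q k) ⟶ D.o (𝒰.j k.1)) (β : ∀ k, D.o (q k) ⟶ D.o (𝒰.j k.2))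
    (H : ∀ k, α k ≫ 𝒰.map k.1 = β k ≫ 𝒰.map k.2 ∧
      IsPullback (bmap 𝒱 (α k)) (bmap 𝒱 (β k)) (bmap 𝒱 (𝒰.map k.1)) (bmap 𝒱 (𝒰.map k.2)))
    (y : ∀ l, D.M (𝒰.j l)) (hy : ∀ k, D.T (α k) (y k.1) = D.T (β k) (y k.2)) :
    ∃ s : Sec D.toMod x, ∀ l, D.evG (𝒰.map l) s = y l := by
  refine exists_cover_glue (fun z k l a b e => ?_) hx
  obtain ⟨s, hs₁, hs₂⟩ := exists_square_lift D.fib (H (k, l)).1 (H (k, l)).2 a b e
  have h₁ := congrArg (D.T s) (hy (k, l))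
  rw [D.T_comp, D.T_comp, D.T_congr hs₁, D.T_congr hs₂] at h₁
  exact h₁

end Glue

end PDatum

end Groth.L23.TwDesc
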