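import Groth.Agent.L23.RelGen.Fam

/-!
# Covering pieces of a category over schemes
-/

universe t w v u

open CategoryTheory CategoryTheory.Limits AlgebraicGeometry Opposite TopologicalSpace

set_option backward.isDefEq.respectTransparency false
set_option backward.isDefEq.respectTransparency.types false
set_option linter.style.haveILetI false
set_option linter.unusedSectionVars false

noncomputable section

namespace Groth.L23.TwDesc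

open StMod
open Groth.L23.RelGen

variable {S : Scheme.{u}}

/-- A collection of affine objects, closed under mapping into them, covering every affine object. -/
structure Pieces (𝒱 : BasedCategory.{v, w} (Over S)) where
  fib : FibCat.IsFibGrpd 𝒱.p
  /-- the index of the pieces -/
  J : Type t
  /-- the pieces -/
  o : J → 𝒱.obj
  aff : ∀ j, IsAffine (sch 𝒱 (o j))
  lift : ∀ (z : 𝒱.obj), IsAffine (sch 𝒱 z) → ∀ j, (z ⟶ o j) → ∃ j', Nonempty (o j' ≅ z)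
  loc : ∀ x : 𝒱.obj, IsAffine (sch 𝒱 x) → ∃ (ι : Type u) (_ : Finite ι) (j : ι → J) (α : ∀ l, o (j l) ⟶ x),
    Groth.L19.QCohFpqc.IsCov (fun l => bmap 𝒱 (α l))

variable {𝒱 : BasedCategory.{v, w} (Over S)} (P : Pieces.{t} 𝒱)

/-- A covering family by pieces. -/
structure PCov (x : 𝒱.obj) where
  /-- the index -/
  ι : Type u
  /-- the pieces -/
  j : ι → P.J
  /-- the maps -/
  map : ∀ l, P.o (j l) ⟶ x
  cov : Groth.L19.QCohFpqc.IsCov (fun l => bmap 𝒱 (map l))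

variable {P}

/-- The underlying cover. -/
abbrev PCov.toCover {x : 𝒱.obj} (𝒰 : PCov P x) : Cover x :=
  ⟨𝒰.ι, fun l => P.o (𝒰.j l), 𝒰.map, fun l => P.aff (𝒰.j l), 𝒰.cov⟩

theorem exists_pcov {x : 𝒱.obj} (hx : IsAffine (sch 𝒱 x)) : ∃ 𝒰 : PCov P x, Finite 𝒰.ι := by
  obtain ⟨ι, hι, j, α, h⟩ := P.loc x hx
  exact ⟨⟨ι, j, α, h⟩, hι⟩

theorem bmap_iso {a b : 𝒱.obj} (i : a ≅ b) : IsIso (bmap 𝒱 i.hom) := by
  refine ⟨bmap 𝒱 i.inv, ?_, ?_⟩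
  · rw [← bmap_comp, i.hom_inv_id, bmap_id]
  · rw [← bmap_comp, i.inv_hom_id, bmap_id]

/-- A cover whose members map to pieces is refined by pieces. -/
theorem exists_pcov_of_cover {x : 𝒱.obj} (𝒲 : Cover x) (h : ∀ l, ∃ j, Nonempty (𝒲.obj l ⟶ P.o j)) :
    ∃ (j : 𝒲.ι → P.J) (i : ∀ l, P.o (j l) ≅ 𝒲.obj l),
      Groth.L19.QCohFpqc.IsCov (fun l => bmap 𝒱 ((i l).hom ≫ 𝒲.map l)) := by
  choose j₀ hj₀ using h
  choose j hj using fun l => P.lift (𝒲.obj l) (𝒲.affine l) (j₀ l) (hj₀ l).some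
  refine ⟨j, fun l => (hj l).some, ⟨fun l => ?_, fun q => ?_⟩⟩
  · haveI := bmap_iso (hj l).some
    haveI := 𝒲.cov.flat l
    rw [bmap_comp]
    infer_instance
  · obtain ⟨l, w, hw⟩ := 𝒲.cov.surj q
    refine ⟨l, bmap 𝒱 (hj l).some.inv w, ?_⟩
    rw [← Scheme.Hom.comp_apply, ← bmap_comp, Iso.inv_hom_id_assoc]
    exact hw

/-- Pullback of a covering family by pieces. -/
theorem PCov.exists_pullback {z x : 𝒱.obj} (hz : IsAffine (sch 𝒱 z)) (hx : IsAffine (sch 𝒱 x)) (𝒰 : PCov P x)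
    (s : z ⟶ x) : ∃ 𝒵 : PCov P z, (Finite 𝒰.ι → Finite 𝒵.ι) ∧ ∀ n, ∃ (l : 𝒰.ι) (b : P.o (𝒵.j n) ⟶ P.o (𝒰.j l)),
      b ≫ 𝒰.map l = 𝒵.map n ≫ s := by
  haveI := hz
  haveI := hx
  obtain ⟨𝒵, hfin, h⟩ := 𝒰.toCover.exists_pullback P.fib s
  choose k t ht using h
  obtain ⟨j, i, hcov⟩ := exists_pcov_of_cover 𝒵 fun n => ⟨_, ⟨t n⟩⟩
  exact ⟨⟨𝒵.ι, j, fun n => (i n).hom ≫ 𝒵.map n, hcov⟩, hfin,
    fun n => ⟨k n, (i n).hom ≫ t n, by rw [Category.assoc, Category.assoc]; exact congrArg _ (ht n)⟩⟩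

/-- A fibre product with a piece is a piece. -/
theorem exists_square_piece {a x : 𝒱.obj} (ha : IsAffine (sch 𝒱 a)) (hx : IsAffine (sch 𝒱 x)) (c : a ⟶ x)
    {j : P.J} (d : P.o j ⟶ x) :
    ∃ (q : P.J) (p₁ : P.o q ⟶ a) (p₂ : P.o q ⟶ P.o j), p₁ ≫ c = p₂ ≫ d ∧
      IsPullback (bmap 𝒱 p₁) (bmap 𝒱 p₂) (bmap 𝒱 c) (bmap 𝒱 d) := by
  haveI := ha
  haveI := hx
  haveI := P.aff j
  obtain ⟨q₀, p₁, p₂, hw, H⟩ := exists_square P.fib c d
  obtain ⟨q, ⟨i⟩⟩ := P.lift q₀ (IsAffine.of_isIso H.isoPullback.hom) j p₂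
  refine ⟨q, i.hom ≫ p₁, i.hom ≫ p₂, by rw [Category.assoc, Category.assoc, hw], ?_⟩
  haveI := bmap_iso i
  exact H.of_iso (asIso (bmap 𝒱 i.hom)).symm (Iso.refl _) (Iso.refl _) (Iso.refl _)
    (by simp) (by simp) (by simp) (by simp)

/-- A piece is covered by pieces over the members of an open cover. -/
theorem exists_openPCov {j : P.J} {κ : Type*} (W : κ → (sch 𝒱 (P.o j)).Opens) (hW : ∀ q, ∃ i, q ∈ W i) :
    ∃ 𝒲 : PCov P (P.o j), Finite 𝒲.ι ∧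
      ∀ l, ∃ i, (⊤ : (sch 𝒱 (P.o (𝒲.j l))).Opens) ≤ bmap 𝒱 (𝒲.map l) ⁻¹ᵁ W i := by
  haveI := P.aff j
  obtain ⟨𝒲, hfin, h⟩ := Groth.L23.RelGen.PB.exists_openCover P.fib W hW
  obtain ⟨jw, i, hcov⟩ := exists_pcov_of_cover (P := P) 𝒲 fun l => ⟨j, ⟨𝒲.map l⟩⟩
  refine ⟨⟨𝒲.ι, jw, fun l => (i l).hom ≫ 𝒲.map l, hcov⟩, hfin, fun l => ?_⟩
  obtain ⟨k, hk⟩ := h l
  refine ⟨k, fun q _ => ?_⟩
  show bmap 𝒱 ((i l).hom ≫ 𝒲.map l) q ∈ W k
  rw [bmap_comp]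
  exact hk trivial

end Groth.L23.TwDesc
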