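import Groth.Agent.L23.TwDesc.BC
import Groth.Agent.L23.RelGen.FamQCoh

/-!
# The module of families is quasi-coherent
-/

universe t w v u

open CategoryTheory CategoryTheory.Limits AlgebraicGeometry Opposite TopologicalSpace
open scoped TensorProduct

set_option backward.isDefEq.respectTransparency false
set_option backward.isDefEq.respectTransparency.types false
set_option linter.style.haveILetI false
set_option linter.unusedSectionVars false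
set_option linter.unusedVariables false

noncomputable section

namespace Groth.L23.TwDesc

open StMod
open Groth.L23.RelGen
open Groth.L18.Frame (rs ro rs_rs rs_self rs_smul pull)
open Groth.L23.RelGen.PB (le_top' factor_unique)

variable {S : Scheme.{u}} {𝒱 : BasedCategory.{v, w} (Over S)}

namespace PDatum

variable {D : PDatum.{t} 𝒱}

theorem ev_resTo {y x : 𝒱.obj} (r : y ⟶ x) {V : (sch 𝒱 x).Opens} (er : (⊤ : (sch 𝒱 y).Opens) ≤ bmap 𝒱 r ⁻¹ᵁ V)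
    (m : Γ(D.toMod.obj x, V)) {j : D.J} (α : D.o j ⟶ y)
    (e : (⊤ : (sch 𝒱 (D.o j)).Opens) ≤ bmap 𝒱 α ⁻¹ᵁ ⊤) :
    ev (D.secFam y ⊤ (resTo D.toMod r er m)) α e =
      ev (D.secFam x V m) (α ≫ r) (le_of_comp r rfl α (e.trans ((bmap 𝒱 α).preimage_mono er))) := by
  have h₁ := congrArg (fun s : D.Fam y ⊤ => ev s α e)
    ((D.secFam_rs y er ((D.mapHom r rfl).app V m)).trans
      (congrArg (D.resFam er) (D.secFam_mapHom r rfl V m)))
  exact h₁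

theorem resTo_injective {y x : 𝒱.obj} (r : y ⟶ x) [IsOpenImmersion (bmap 𝒱 r)] {V : (sch 𝒱 x).Opens}
    (hV : Set.range (bmap 𝒱 r) = (V : Set (sch 𝒱 x))) (er : (⊤ : (sch 𝒱 y).Opens) ≤ bmap 𝒱 r ⁻¹ᵁ V) :
    Function.Injective (resTo D.toMod r er) := by
  intro m m' h
  refine (D.secFam x V).injective (fam_ext fun j α e => ?_)
  obtain ⟨t, ht⟩ := exists_factor_open D.fib α r (by
    rw [hV]; rintro _ ⟨q, rfl⟩; exact e (show q ∈ (⊤ : (sch 𝒱 (D.o j)).Opens) from trivial))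
  subst ht
  have h₁ := congrArg (fun s => ev (D.secFam y ⊤ s) t (le_top' t)) h
  rwa [ev_resTo, ev_resTo] at h₁

theorem resTo_surjective {y x : 𝒱.obj} (r : y ⟶ x) [IsOpenImmersion (bmap 𝒱 r)] {V : (sch 𝒱 x).Opens}
    (hV : Set.range (bmap 𝒱 r) = (V : Set (sch 𝒱 x))) (er : (⊤ : (sch 𝒱 y).Opens) ≤ bmap 𝒱 r ⁻¹ᵁ V) :
    Function.Surjective (resTo D.toMod r er) := by
  intro s
  choose t ht using fun i : D.Idx x V => exists_factor_open D.fib i.α r (by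
    rw [hV]; rintro _ ⟨q, rfl⟩; exact i.le (show q ∈ (⊤ : (sch 𝒱 (D.o i.j)).Opens) from trivial))
  let f : D.Fam x V := ⟨fun i => ev (D.secFam y ⊤ s) (t i) (le_top' _),
    fun {j' j} β {α α'} hα e e' => ev_map _ β
      (factor_unique r D.fib (by rw [Category.assoc, ht, ht, hα])) _ _⟩
  refine ⟨(D.secFam x V).symm f, (D.secFam y ⊤).injective (fam_ext fun j α e => ?_)⟩
  rw [ev_resTo, LinearEquiv.apply_symm_apply]
  exact ev_congr _ (factor_unique r D.fib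
    (ht ⟨j, α ≫ r, le_of_comp r rfl α (e.trans ((bmap 𝒱 α).preimage_mono er))⟩)) _ _

/-- Base change of families between affine opens. -/
theorem exists_openEquiv {x' x : 𝒱.obj} (φ : x' ⟶ x) {V : (sch 𝒱 x).Opens} (hV : IsAffineOpen V)
    {W : (sch 𝒱 x').Opens} (hW : IsAffineOpen W) (e : W ≤ bmap 𝒱 φ ⁻¹ᵁ V) :
    letI := ((bmap 𝒱 φ).appLE V W e).hom.toAlgebra
    ∃ E : Γ(sch 𝒱 x', W) ⊗[Γ(sch 𝒱 x, V)] Γ(D.toMod.obj x, V) ≃+ Γ(D.toMod.obj x', W),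
      ∀ c m, E (c ⊗ₜ m) = c • rs (D.toMod.obj x') e ((D.toMod.map φ rfl).app V m) := by
  obtain ⟨yV, rV, hiV, hrV, haV⟩ := exists_restrict D.fib x V
  obtain ⟨yW, rW, hiW, hrW, haW⟩ := exists_restrict D.fib x' W
  haveI := hiV
  haveI := hiW
  haveI := haV hV
  haveI := haW hW
  obtain ⟨t, ht⟩ := exists_factor_open D.fib (rW ≫ φ) rV (by
    rw [hrV]
    rintro _ ⟨q, rfl⟩
    rw [bmap_comp]
    exact e (hrW.subset ⟨q, rfl⟩))
  have eV : (⊤ : (sch 𝒱 yV).Opens) ≤ bmap 𝒱 rV ⁻¹ᵁ V := fun q _ => hrV.subset ⟨q, rfl⟩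
  have eW : (⊤ : (sch 𝒱 yW).Opens) ≤ bmap 𝒱 rW ⁻¹ᵁ W := fun q _ => hrW.subset ⟨q, rfl⟩
  letI := ((bmap 𝒱 φ).appLE V W e).hom.toAlgebra
  letI := (fnMap t).toAlgebra
  let σ : Γ(sch 𝒱 x, V) →+* Fn yV := ((bmap 𝒱 rV).appLE V ⊤ eV).hom
  let σ' : Γ(sch 𝒱 x', W) →+* Fn yW := ((bmap 𝒱 rW).appLE W ⊤ eW).hom
  have hcomm : ∀ r, σ' ((bmap 𝒱 φ).appLE V W e r) = fnMap t (σ r) := fun r => by
    have e₂ : (⊤ : (sch 𝒱 yW).Opens) ≤ bmap 𝒱 (rW ≫ φ) ⁻¹ᵁ V := by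
      rw [bmap_comp, Scheme.Hom.comp_preimage]
      exact eW.trans ((bmap 𝒱 rW).preimage_mono e)
    rw [show fnMap t (σ r) = _ from appLE_of_comp t rV (rW ≫ φ) ht eV e₂ r]
    have key : ∀ (g : sch 𝒱 yW ⟶ sch 𝒱 x) (_ : bmap 𝒱 (rW ≫ φ) = g) (e'' : ⊤ ≤ g ⁻¹ᵁ V),
        (bmap 𝒱 (rW ≫ φ)).appLE V ⊤ e₂ r = g.appLE V ⊤ e'' r := by
      rintro g rfl e''; rfl
    rw [key _ (bmap_comp rW φ) (eW.trans ((bmap 𝒱 rW).preimage_mono e)),
      ← Scheme.Hom.appLE_comp_appLE (bmap 𝒱 rW) (bmap 𝒱 φ) V W ⊤ e eW]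
    rfl
  obtain ⟨Θ, hΘ⟩ := exists_tensorTransport (R' := Γ(sch 𝒱 x', W)) (R₂' := Fn yW) σ
    (appLE_bijective_of_range _ hrV eV) σ' (appLE_bijective_of_range _ hrW eW) hcomm
    (resTo D.toMod rV eV) ⟨resTo_injective rV hrV eV, resTo_surjective rV hrV eV⟩ (resTo_smul rV eV)
  obtain ⟨E, hE⟩ := exists_affineEquiv (D := D) t
  let ψ : Γ(D.toMod.obj x', W) ≃+ Sec D.toMod yW :=
    AddEquiv.ofBijective (resTo D.toMod rW eW) ⟨resTo_injective rW hrW eW, resTo_surjective rW hrW eW⟩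
  refine ⟨(Θ.trans E).trans ψ.symm, fun c m => ψ.injective ?_⟩
  show ψ (ψ.symm (E (Θ (c ⊗ₜ m)))) = resTo D.toMod rW eW _
  rw [ψ.apply_symm_apply, hΘ, hE, resTo_smul, resTo_rs]
  refine congrArg (fun a : Sec D.toMod yW => σ' c • a) ?_
  have e₁ : (⊤ : (sch 𝒱 yW).Opens) ≤ bmap 𝒱 (t ≫ rV) ⁻¹ᵁ V := by
    rw [bmap_comp, Scheme.Hom.comp_preimage]
    exact le_top.trans ((bmap 𝒱 t).preimage_mono eV)
  have e₂ : (⊤ : (sch 𝒱 yW).Opens) ≤ bmap 𝒱 (rW ≫ φ) ⁻¹ᵁ V := by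
    rw [← ht]; exact e₁
  rw [resTo_map rW φ _ e₂, ← resTo_comp t rV eV e₁]
  simp only [ht]

theorem openEquiv_self {x : 𝒱.obj} {V W : (sch 𝒱 x).Opens} (hV : IsAffineOpen V) (hW : IsAffineOpen W)
    (h : W ≤ V) :
    letI := ((sch 𝒱 x).presheaf.map (homOfLE h).op).hom.toAlgebra
    ∃ E : Γ(sch 𝒱 x, W) ⊗[Γ(sch 𝒱 x, V)] Γ(D.toMod.obj x, V) ≃+ Γ(D.toMod.obj x, W),
      ∀ c m, E (c ⊗ₜ m) = c • rs (D.toMod.obj x) h m := by
  have e : W ≤ bmap 𝒱 (𝟙 x) ⁻¹ᵁ V := by rw [bmap_id]; exact h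
  have hring : ((bmap 𝒱 (𝟙 x)).appLE V W e).hom = ((sch 𝒱 x).presheaf.map (homOfLE h).op).hom := by
    have key : ∀ (g : sch 𝒱 x ⟶ sch 𝒱 x) (_ : g = 𝟙 _) (e' : W ≤ g ⁻¹ᵁ V),
        (g.appLE V W e').hom = ((sch 𝒱 x).presheaf.map (homOfLE h).op).hom := by
      rintro g rfl e'
      rw [Scheme.Hom.appLE, Scheme.Hom.id_app, Category.id_comp]
    exact key _ (bmap_id x) e
  have hval : ∀ m, rs (D.toMod.obj x) e ((D.toMod.map (𝟙 x) rfl).app V m) = rs (D.toMod.obj x) h m := by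
    intro m
    have key : ∀ (g : sch 𝒱 x ⟶ sch 𝒱 x) (hg : bmap 𝒱 (𝟙 x) = g) (e' : W ≤ g ⁻¹ᵁ V),
        rs (D.toMod.obj x) e ((D.toMod.map (𝟙 x) rfl).app V m) =
          rs (D.toMod.obj x) e' ((D.toMod.map (𝟙 x) hg).app V m) := by
      rintro g rfl e'; rfl
    rw [key _ (bmap_id x) h, Mod.map_id_app]
    rfl
  have hE := exists_openEquiv (D := D) (𝟙 x) hV hW e
  simp only [hval] at hE
  rw [hring] at hE
  exact hE

theorem isLocQCoh_toMod : D.toMod.IsLocQCoh := fun x => by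
  refine Groth.L16.QcqsPush.isQCoh_of_sections _ fun y => ?_
  obtain ⟨V, hV, hyV, -⟩ := exists_isAffineOpen_mem_and_subset (show y ∈ (⊤ : (sch 𝒱 x).Opens) from trivial)
  refine ⟨V, hyV, hV, fun a => ?_⟩
  have hle := (sch 𝒱 x).basicOpen_le a
  letI := ((sch 𝒱 x).presheaf.map (homOfLE hle).op).hom.toAlgebra
  haveI : IsLocalization.Away a Γ(sch 𝒱 x, (sch 𝒱 x).basicOpen a) := hV.isLocalization_basicOpen a
  obtain ⟨E, hE⟩ := openEquiv_self (D := D) hV (hV.basicOpen a) hle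
  let mk := TensorProduct.mk Γ(sch 𝒱 x, V) Γ(sch 𝒱 x, (sch 𝒱 x).basicOpen a) Γ(D.toMod.obj x, V) 1
  haveI : IsLocalizedModule (Submonoid.powers a) mk := inferInstance
  have hpow : ∀ n, algebraMap Γ(sch 𝒱 x, V) Γ(sch 𝒱 x, (sch 𝒱 x).basicOpen a) (a ^ n) = ro hle (a ^ n) := fun n => rfl
  refine ⟨fun s => ?_, fun t ht => ?_⟩
  · obtain ⟨⟨t, ⟨_, n, rfl⟩⟩, ht⟩ := IsLocalizedModule.surj (Submonoid.powers a) mk (E.symm s)
    refine ⟨n, t, ?_⟩
    have hlin : ∀ (c : Γ(sch 𝒱 x, V)) z, E (c • z) = ro hle c • E z := fun c z => by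
      induction z using TensorProduct.induction_on with
      | zero => rw [smul_zero, map_zero, smul_zero]
      | tmul b m =>
        rw [TensorProduct.smul_tmul', hE, hE, Algebra.smul_def, mul_smul]
        rfl
      | add p q hp hq => rw [smul_add, map_add, map_add, hp, hq, smul_add]
    have h₁ := congrArg E ht
    rw [Submonoid.smul_def, hlin, E.apply_symm_apply] at h₁
    rw [h₁]
    show _ = E ((1 : Γ(sch 𝒱 x, (sch 𝒱 x).basicOpen a)) ⊗ₜ t)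
    rw [hE, one_smul]
  · have h₀ : mk t = 0 := E.injective (by
      show E ((1 : Γ(sch 𝒱 x, (sch 𝒱 x).basicOpen a)) ⊗ₜ t) = E 0
      rw [hE, one_smul, ht, map_zero])
    obtain ⟨⟨_, n, rfl⟩, hn⟩ := (IsLocalizedModule.eq_zero_iff (Submonoid.powers a) mk).1 h₀
    exact ⟨n, hn⟩

theorem isCartesian_toMod : D.toMod.IsCartesian := fun x' x φ g hg => by
  subst hg
  haveI := D.isLocQCoh_toMod x
  set κ := ((Scheme.Modules.pullbackPushforwardAdjunction (bmap 𝒱 φ)).homEquiv _ _).symm (D.toMod.map φ rfl)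
    with hκ
  have hpull : ∀ (U : (sch 𝒱 x).Opens) (m : Γ(D.toMod.obj x, U)),
      κ.app (bmap 𝒱 φ ⁻¹ᵁ U) (pull (bmap 𝒱 φ) (D.toMod.obj x) U m) = (D.toMod.map φ rfl).app U m := by
    intro U m
    have h : (Scheme.Modules.pullbackPushforwardAdjunction (bmap 𝒱 φ)).homEquiv _ _ κ = D.toMod.map φ rfl :=
      Equiv.apply_symm_apply _ _
    conv_rhs => rw [← h, Adjunction.homEquiv_unit]
    rfl
  refine Groth.L17.BC.Classes.isIso_of_affine κ fun y => ?_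
  obtain ⟨V, hV, hyV, -⟩ :=
    exists_isAffineOpen_mem_and_subset (show bmap 𝒱 φ y ∈ (⊤ : (sch 𝒱 x).Opens) from trivial)
  refine ⟨bmap 𝒱 φ ⁻¹ᵁ V, hyV, fun W hle hW => ?_⟩
  letI := ((bmap 𝒱 φ).appLE V W hle).hom.toAlgebra
  letI := Module.compHom Γ((Scheme.Modules.pullback (bmap 𝒱 φ)).obj (D.toMod.obj x), W)
    ((bmap 𝒱 φ).appLE V W hle).hom
  haveI : IsScalarTower Γ(sch 𝒱 x, V) Γ(sch 𝒱 x', W)
      Γ((Scheme.Modules.pullback (bmap 𝒱 φ)).obj (D.toMod.obj x), W) :=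
    IsScalarTower.of_algebraMap_smul fun _ _ => rfl
  have hb := Groth.L16.AffineBC.isBaseChange_pull (f := bmap 𝒱 φ) (G := D.toMod.obj x) hV hW hle
  obtain ⟨E, hE⟩ := exists_openEquiv (D := D) φ hV hW hle
  have hval : ∀ t, κ.app W (hb.equiv t) = E t := fun t => by
    induction t using TensorProduct.induction_on with
    | zero => rw [map_zero, map_zero, map_zero]
    | tmul c m =>
      rw [hb.equiv_tmul, hE]
      refine (κ.app_smul c _).trans (congrArg (fun a => c • a) ?_)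
      show κ.app W (rs _ hle (pull (bmap 𝒱 φ) (D.toMod.obj x) V m)) = _
      exact (Groth.L17.BC.PullSec.app_rs κ hle _).trans (congrArg _ (hpull V m))
    | add a b ha hb' => rw [map_add, map_add, map_add, ha, hb']
  have : ⇑(κ.app W) = E ∘ hb.equiv.symm := funext fun s => by
    show κ.app W s = E (hb.equiv.symm s)
    rw [← hval, LinearEquiv.apply_symm_apply]
  rw [this]
  exact E.bijective.comp hb.equiv.symm.bijective

variable (D) in
/-- The quasi-coherent module of families. -/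
def toQCoh : QCoh 𝒱 := ⟨D.toMod, isCartesian_toMod, isLocQCoh_toMod⟩

end PDatum

end Groth.L23.TwDesc
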