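import Groth.Agent.L23.TwDesc.Fam
import Groth.Agent.L23.RelGen.FamSheaf

/-!
# The module of compatible families
-/

universe t w v u

open CategoryTheory CategoryTheory.Limits AlgebraicGeometry Opposite TopologicalSpace

set_option backward.isDefEq.respectTransparency false
set_option backward.isDefEq.respectTransparency.types false
set_option linter.style.haveILetI false
set_option linter.unusedSectionVars false
set_option linter.unusedVariables false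

noncomputable section

namespace Groth.L23.TwDesc

open StMod
open Groth.L23.RelGen
open Groth.L18.Frame (rs ro)
open Groth.L23.RelGen.PB (le_piece_of)

variable {S : Scheme.{u}} {𝒱 : BasedCategory.{v, w} (Over S)}

namespace PDatum

variable {D : PDatum.{t} 𝒱} {x : 𝒱.obj}

/-- A value glueing families on an open cover. -/
def IsVal {ι : Type*} {V : ι → (sch 𝒱 x).Opens} (sf : ∀ i, D.Fam x (V i)) {j : D.J} (α : D.o j ⟶ x)
    (m : D.M j) : Prop :=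
  ∀ (i : ι) (j' : D.J) (β : D.o j' ⟶ D.o j) (α' : D.o j' ⟶ x) (_ : β ≫ α = α')
    (e : (⊤ : (sch 𝒱 (D.o j')).Opens) ≤ bmap 𝒱 α' ⁻¹ᵁ V i),
    D.T β m = ev (sf i) α' e

variable {ι : Type*} {V : ι → (sch 𝒱 x).Opens} {sf : ∀ i, D.Fam x (V i)}

theorem exists_cover_of {j : D.J} (α : D.o j ⟶ x)
    (e : (⊤ : (sch 𝒱 (D.o j)).Opens) ≤ bmap 𝒱 α ⁻¹ᵁ iSup V) :
    ∃ 𝒲 : PCov D.toPieces (D.o j), Finite 𝒲.ι ∧
      ∀ l, ∃ i, (⊤ : (sch 𝒱 (D.o (𝒲.j l))).Opens) ≤ bmap 𝒱 (𝒲.map l ≫ α) ⁻¹ᵁ V i := by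
  obtain ⟨𝒲, hfin, h𝒲⟩ := exists_openPCov (P := D.toPieces) (fun i => bmap 𝒱 α ⁻¹ᵁ V i) fun q => by
    have hq : bmap 𝒱 α q ∈ iSup V := e (show q ∈ (⊤ : (sch 𝒱 (D.o j)).Opens) from trivial)
    obtain ⟨i, hi⟩ := Opens.mem_iSup.1 hq
    exact ⟨i, hi⟩
  exact ⟨𝒲, hfin, fun l => ⟨_, le_piece_of _ _ (h𝒲 l).choose_spec⟩⟩

theorem isVal_unique {j : D.J} (α : D.o j ⟶ x) (e : (⊤ : (sch 𝒱 (D.o j)).Opens) ≤ bmap 𝒱 α ⁻¹ᵁ iSup V)
    {m m' : D.M j} (h : IsVal sf α m) (h' : IsVal sf α m') : m = m' := by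
  obtain ⟨𝒲, -, h𝒲⟩ := exists_cover_of α e
  refine D.ext' 𝒲 _ _ fun l => ?_
  obtain ⟨i, hi⟩ := h𝒲 l
  exact (h i _ _ _ rfl hi).trans (h' i _ _ _ rfl hi).symm

variable (hc : ∀ i k, D.resFam (inf_le_left : V i ⊓ V k ≤ V i) (sf i) = D.resFam (inf_le_right : V i ⊓ V k ≤ V k) (sf k))
include hc

theorem ev_eq_of_compat {j : D.J} (α : D.o j ⟶ x) (i k : ι)
    (ei : (⊤ : (sch 𝒱 (D.o j)).Opens) ≤ bmap 𝒱 α ⁻¹ᵁ V i) (ek : (⊤ : (sch 𝒱 (D.o j)).Opens) ≤ bmap 𝒱 α ⁻¹ᵁ V k) :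
    ev (sf i) α ei = ev (sf k) α ek :=
  congrArg (fun s : D.Fam x (V i ⊓ V k) => ev s α (fun q hq => ⟨ei hq, ek hq⟩)) (hc i k)

theorem exists_glueVal {j : D.J} (α : D.o j ⟶ x) (𝒲 : PCov D.toPieces (D.o j)) [Finite 𝒲.ι] (i : 𝒲.ι → ι)
    (hi : ∀ l, (⊤ : (sch 𝒱 (D.o (𝒲.j l))).Opens) ≤ bmap 𝒱 (𝒲.map l ≫ α) ⁻¹ᵁ V (i l)) :
    ∃ m : D.M j, ∀ l, D.T (𝒲.map l) m = ev (sf (i l)) (𝒲.map l ≫ α) (hi l) := by
  refine D.exists_glue 𝒲 (fun l => ev (sf (i l)) (𝒲.map l ≫ α) (hi l)) fun z k l a b hab => ?_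
  have hab₂ : b ≫ 𝒲.map l ≫ α = a ≫ 𝒲.map k ≫ α := by rw [← Category.assoc, ← Category.assoc, hab]
  have ek := le_piece_of a (𝒲.map k ≫ α) (W := V (i k)) (le_top.trans ((bmap 𝒱 a).preimage_mono (hi k)))
  have el : (⊤ : (sch 𝒱 (D.o z)).Opens) ≤ bmap 𝒱 (a ≫ 𝒲.map k ≫ α) ⁻¹ᵁ V (i l) := by
    rw [← hab₂]
    exact le_piece_of b (𝒲.map l ≫ α) (W := V (i l)) (le_top.trans ((bmap 𝒱 b).preimage_mono (hi l)))
  refine (ev_map (sf (i k)) a rfl (hi k) ek).trans ?_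
  refine Eq.trans ?_ (ev_map (sf (i l)) b hab₂ (hi l) el).symm
  exact ev_eq_of_compat hc _ (i k) (i l) ek el

theorem isVal_of_glue {j : D.J} (α : D.o j ⟶ x) (𝒲 : PCov D.toPieces (D.o j))
    (i : 𝒲.ι → ι) (hi : ∀ l, (⊤ : (sch 𝒱 (D.o (𝒲.j l))).Opens) ≤ bmap 𝒱 (𝒲.map l ≫ α) ⁻¹ᵁ V (i l))
    (m : D.M j) (hm : ∀ l, D.T (𝒲.map l) m = ev (sf (i l)) (𝒲.map l ≫ α) (hi l)) : IsVal sf α m := by
  intro i' j' β α' hα e'
  obtain ⟨𝒵, -, h𝒵⟩ := 𝒲.exists_pullback (D.aff j') (D.aff j) β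
  refine D.ext' 𝒵 _ _ fun n => ?_
  obtain ⟨l, b, hb⟩ := h𝒵 n
  have en := le_piece_of (𝒵.map n) α' (W := V i') (le_top.trans ((bmap 𝒱 (𝒵.map n)).preimage_mono e'))
  have hαn : b ≫ 𝒲.map l ≫ α = 𝒵.map n ≫ α' := by rw [← Category.assoc, hb, Category.assoc, hα]
  have el : (⊤ : (sch 𝒱 (D.o (𝒵.j n))).Opens) ≤ bmap 𝒱 (𝒵.map n ≫ α') ⁻¹ᵁ V (i l) := by
    rw [← hαn]
    exact le_piece_of b (𝒲.map l ≫ α) (W := V (i l)) (le_top.trans ((bmap 𝒱 b).preimage_mono (hi l)))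
  rw [D.T_comp, ev_map (sf i') (𝒵.map n) rfl e' en, ← ev_eq_of_compat hc _ (i l) i' el en,
    ← ev_map (sf (i l)) b hαn (hi l) el, ← hm l, D.T_comp]
  exact D.T_congr hb.symm m

theorem exists_isVal {j : D.J} (α : D.o j ⟶ x)
    (e : (⊤ : (sch 𝒱 (D.o j)).Opens) ≤ bmap 𝒱 α ⁻¹ᵁ iSup V) : ∃ m : D.M j, IsVal sf α m := by
  obtain ⟨𝒲, hfin, h𝒲⟩ := exists_cover_of α e
  choose i hi using h𝒲
  haveI := hfin
  obtain ⟨m, hm⟩ := exists_glueVal hc α 𝒲 i hi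
  exact ⟨m, isVal_of_glue hc α 𝒲 i hi m hm⟩

theorem exists_glue_fam : ∃! s : D.Fam x (iSup V), ∀ i, D.resFam (le_iSup V i) s = sf i := by
  choose m hm using fun p : D.Idx x (iSup V) => exists_isVal hc p.α p.le
  refine ⟨⟨m, fun {j' j} β {α α'} hα e e' => ?_⟩, fun i => ?_, fun s hs => ?_⟩
  · refine isVal_unique α' e' (sf := sf) ?_ (hm ⟨j', α', e'⟩)
    intro i j'' β' α'' hα' e''
    rw [D.T_comp]
    exact hm ⟨j, α, e⟩ i j'' (β' ≫ β) α'' (by rw [Category.assoc, hα, hα']) e''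
  · refine fam_ext fun j α e => ?_
    have eV : (⊤ : (sch 𝒱 (D.o j)).Opens) ≤ bmap 𝒱 α ⁻¹ᵁ iSup V := e.trans ((bmap 𝒱 α).preimage_mono (le_iSup V i))
    refine isVal_unique α eV (sf := sf) (hm ⟨j, α, eV⟩) ?_
    intro i' j' β α' hα e'
    have ei : (⊤ : (sch 𝒱 (D.o j')).Opens) ≤ bmap 𝒱 α' ⁻¹ᵁ V i := by
      rw [← hα]
      exact le_piece_of β α (W := V i) (le_top.trans ((bmap 𝒱 β).preimage_mono e))
    exact (ev_map (sf i) β hα e ei).trans (ev_eq_of_compat hc _ i i' ei e')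
  · refine fam_ext fun j α e => isVal_unique α e (sf := sf) ?_ (hm ⟨j, α, e⟩)
    intro i j' β α' hα e'
    refine (ev_map s β hα e (e'.trans ((bmap 𝒱 α').preimage_mono (le_iSup V i)))).trans ?_
    exact congrArg (fun t : D.Fam x (V i) => ev t α' e') (hs i)

omit hc

variable (D x)

/-- Sections of the module of families. -/
abbrev Sh (U : (sch 𝒱 x).Opens) : Type u := Shrink.{u} (D.Fam x U)

/-- Sections as families. -/
def toFam {U : (sch 𝒱 x).Opens} : D.Sh x U ≃ₗ[Γ(sch 𝒱 x, U)] D.Fam x U :=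
  Shrink.linearEquiv Γ(sch 𝒱 x, U) (D.Fam x U)

variable {D x}

theorem toFam_smul {U : (sch 𝒱 x).Opens} (r : Γ(sch 𝒱 x, U)) (s : D.Sh x U) :
    D.toFam x (r • s) = r • D.toFam x s := map_smul _ _ _

variable (D x)

/-- Restriction of sections. -/
def resSh {U W : (sch 𝒱 x).Opens} (h : W ≤ U) : D.Sh x U →+ D.Sh x W :=
  (D.toFam x).symm.toAddEquiv.toAddMonoidHom.comp ((D.resFam h).comp (D.toFam x).toAddEquiv.toAddMonoidHom)

theorem toFam_resSh {U W : (sch 𝒱 x).Opens} (h : W ≤ U) (s : D.Sh x U) :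
    D.toFam x (D.resSh x h s) = D.resFam h (D.toFam x s) := (D.toFam x).apply_symm_apply _

/-- The presheaf of families. -/
def abPre : (sch 𝒱 x).Opensᵒᵖ ⥤ Ab.{u} where
  obj U := AddCommGrpCat.of (D.Sh x U.unop)
  map {U W} i := AddCommGrpCat.ofHom (D.resSh x i.unop.le)
  map_id U := by
    refine AddCommGrpCat.ext fun s => ?_
    refine (D.toFam x).injective ?_
    exact (D.toFam_resSh x le_rfl s)
  map_comp {U W Z} i k := by
    refine AddCommGrpCat.ext fun s => ?_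
    refine (D.toFam x).injective ?_
    show D.toFam x (D.resSh x _ s) = D.toFam x (D.resSh x _ (D.resSh x _ s))
    rw [toFam_resSh, toFam_resSh, toFam_resSh]
    rfl

instance (U : (sch 𝒱 x).Opensᵒᵖ) :
    Module (((sch 𝒱 x).presheaf ⋙ forget₂ CommRingCat RingCat).obj U) ((D.abPre x).obj U) :=
  inferInstanceAs (Module Γ(sch 𝒱 x, U.unop) (D.Sh x U.unop))

theorem appLE_ro {z : 𝒱.obj} (α : z ⟶ x) {U W : (sch 𝒱 x).Opens} (h : W ≤ U)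
    (e : (⊤ : (sch 𝒱 z).Opens) ≤ bmap 𝒱 α ⁻¹ᵁ W) (r : Γ(sch 𝒱 x, U)) :
    (bmap 𝒱 α).appLE U ⊤ (e.trans ((bmap 𝒱 α).preimage_mono h)) r = (bmap 𝒱 α).appLE W ⊤ e (ro h r) := by
  rw [← Scheme.Hom.map_appLE (bmap 𝒱 α) e (homOfLE h).op]
  rfl

theorem resFam_smul {U W : (sch 𝒱 x).Opens} (h : W ≤ U) (r : Γ(sch 𝒱 x, U)) (s : D.Fam x U) :
    D.resFam h (r • s) = ro h r • D.resFam h s :=
  fam_ext fun j α e => congrArg (fun a : Fn (D.o j) => a • _) (appLE_ro x α h e r)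

theorem abPre_map_smul ⦃U W : (sch 𝒱 x).Opensᵒᵖ⦄ (i : U ⟶ W)
    (r : ((sch 𝒱 x).presheaf ⋙ forget₂ CommRingCat RingCat).obj U) (m : (D.abPre x).obj U) :
    (D.abPre x).map i (r • m) =
      ((sch 𝒱 x).presheaf ⋙ forget₂ CommRingCat RingCat).map i r • (D.abPre x).map i m := by
  refine (D.toFam x).injective ?_
  refine (D.toFam_resSh x i.unop.le _).trans ?_
  refine (congrArg (D.resFam i.unop.le) (toFam_smul (D := D) (x := x) (U := U.unop) r m)).trans ?_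
  refine (D.resFam_smul x _ _ _).trans ?_
  rw [← D.toFam_resSh x]
  exact (toFam_smul (D := D) (x := x) (U := W.unop) _ _).symm

theorem abPre_isSheaf : TopCat.Presheaf.IsSheaf (D.abPre x) := by
  rw [TopCat.Presheaf.isSheaf_iff_isSheafUniqueGluing]
  intro κ V sf hsf
  obtain ⟨s, hs, hu⟩ := exists_glue_fam (D := D) (x := x) (sf := fun i => D.toFam x (show D.Sh x (V i) from sf i))
    fun i k => by
      refine (D.toFam_resSh x _ _).symm.trans (Eq.trans ?_ (D.toFam_resSh x _ _))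
      exact congrArg (D.toFam x) (hsf i k)
  refine ⟨(show D.Sh x (iSup V) from (D.toFam x).symm s), fun i => ?_, fun t ht => ?_⟩
  · refine (D.toFam x).injective ?_
    refine (D.toFam_resSh x (le_iSup V i) _).trans ?_
    rw [LinearEquiv.apply_symm_apply]
    exact hs i
  · refine (D.toFam x).injective ?_
    rw [LinearEquiv.apply_symm_apply]
    refine hu _ fun i => ?_
    refine (D.toFam_resSh x (le_iSup V i) _).symm.trans ?_
    exact congrArg (D.toFam x) (ht i)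

/-- The module of families on an object. -/
def famMod : (sch 𝒱 x).Modules where
  val := PresheafOfModules.ofPresheaf (R := (sch 𝒱 x).presheaf ⋙ forget₂ CommRingCat RingCat) (D.abPre x)
    (D.abPre_map_smul x)
  isSheaf := D.abPre_isSheaf x

/-- Sections of the module of families. -/
def secFam (U : (sch 𝒱 x).Opens) : Γ(D.famMod x, U) ≃ₗ[Γ(sch 𝒱 x, U)] D.Fam x U :=
  { (D.toFam x).toAddEquiv with
    map_smul' := fun r s => toFam_smul r s }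

theorem secFam_rs {U W : (sch 𝒱 x).Opens} (h : W ≤ U) (s : Γ(D.famMod x, U)) :
    D.secFam x W (rs (D.famMod x) h s) = D.resFam h (D.secFam x U s) := D.toFam_resSh x h s

variable {x}

theorem resFam_mapFam {x' : 𝒱.obj} (φ : x' ⟶ x) {g : sch 𝒱 x' ⟶ sch 𝒱 x} (hg : bmap 𝒱 φ = g)
    {U W : (sch 𝒱 x).Opens} (h : W ≤ U) (s : D.Fam x U) :
    D.mapFam φ hg W (D.resFam h s) = D.resFam (g.preimage_mono h) (D.mapFam φ hg U s) := rfl

theorem mapFam_smul {x' : 𝒱.obj} (φ : x' ⟶ x) {g : sch 𝒱 x' ⟶ sch 𝒱 x} (hg : bmap 𝒱 φ = g)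
    (U : (sch 𝒱 x).Opens) (r : Γ(sch 𝒱 x, U)) (s : D.Fam x U) :
    D.mapFam φ hg U (r • s) = g.app U r • D.mapFam φ hg U s := by
  refine fam_ext fun j α e => congrArg (fun a : Fn (D.o j) => a • _) ?_
  subst hg
  have key : ∀ (g' : sch 𝒱 (D.o j) ⟶ sch 𝒱 x) (_ : bmap 𝒱 (α ≫ φ) = g') (e'' : ⊤ ≤ g' ⁻¹ᵁ U),
      (bmap 𝒱 (α ≫ φ)).appLE U ⊤ (le_of_comp φ rfl α e) r = g'.appLE U ⊤ e'' r := by
    rintro g' rfl e''; rfl
  show (bmap 𝒱 (α ≫ φ)).appLE U ⊤ _ r = (bmap 𝒱 α).appLE (bmap 𝒱 φ ⁻¹ᵁ U) ⊤ e ((bmap 𝒱 φ).app U r)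
  rw [key _ (bmap_comp α φ) e, Scheme.Hom.appLE, Scheme.Hom.appLE, Scheme.Hom.comp_app, Category.assoc]
  rfl

/-- The comparison map on sections. -/
def mapHom {x' x : 𝒱.obj} (φ : x' ⟶ x) {g : sch 𝒱 x' ⟶ sch 𝒱 x} (hg : bmap 𝒱 φ = g) :
    D.famMod x ⟶ (Scheme.Modules.pushforward g).obj (D.famMod x') :=
  ⟨PresheafOfModules.homMk
    { app := fun U => AddCommGrpCat.ofHom
        ((D.secFam x' (g ⁻¹ᵁ U.unop)).symm.toAddEquiv.toAddMonoidHom.comp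
          ((D.mapFam φ hg U.unop).comp (D.secFam x U.unop).toAddEquiv.toAddMonoidHom))
      naturality := fun U W i => by
        ext s
        refine (D.secFam x' (g ⁻¹ᵁ W.unop)).injective ?_
        show D.secFam x' _ ((D.secFam x' _).symm (D.mapFam φ hg W.unop (D.secFam x _ (rs (D.famMod x) i.unop.le s)))) =
          D.secFam x' _ (rs (D.famMod x') (g.preimage_mono i.unop.le) ((D.secFam x' _).symm _))
        rw [LinearEquiv.apply_symm_apply, secFam_rs, secFam_rs, LinearEquiv.apply_symm_apply]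
        rfl }
    fun U r s => by
      refine (D.secFam x' (g ⁻¹ᵁ U.unop)).injective ?_
      show D.secFam x' _ ((D.secFam x' _).symm (D.mapFam φ hg U.unop (D.secFam x U.unop
          ((show Γ(sch 𝒱 x, U.unop) from r) • (show Γ(D.famMod x, U.unop) from s))))) =
        D.secFam x' _ ((show Γ(sch 𝒱 x', g ⁻¹ᵁ U.unop) from g.app U.unop r) •
          (D.secFam x' _).symm (D.mapFam φ hg U.unop (D.secFam x U.unop s)))
      rw [LinearEquiv.apply_symm_apply, (D.secFam x U.unop).map_smul, (D.secFam x' _).map_smul,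
        LinearEquiv.apply_symm_apply, mapFam_smul]⟩

theorem secFam_mapHom {x' x : 𝒱.obj} (φ : x' ⟶ x) {g : sch 𝒱 x' ⟶ sch 𝒱 x} (hg : bmap 𝒱 φ = g)
    (U : (sch 𝒱 x).Opens) (s : Γ(D.famMod x, U)) :
    D.secFam x' (g ⁻¹ᵁ U) ((D.mapHom φ hg).app U s) = D.mapFam φ hg U (D.secFam x U s) :=
  (D.secFam x' (g ⁻¹ᵁ U)).apply_symm_apply _

theorem mapFam_id (x : 𝒱.obj) (U : (sch 𝒱 x).Opens) (s : D.Fam x U) :
    D.mapFam (𝟙 x) (bmap_id x) U s = (show D.Fam x (𝟙 (sch 𝒱 x) ⁻¹ᵁ U) from s) :=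
  fam_ext fun j α e => ev_congr s (Category.comp_id α) _ _

theorem mapFam_comp {x'' x' x : 𝒱.obj} (ψ : x'' ⟶ x') (φ : x' ⟶ x) {h : sch 𝒱 x'' ⟶ sch 𝒱 x'}
    {g : sch 𝒱 x' ⟶ sch 𝒱 x} (hh : bmap 𝒱 ψ = h) (hg : bmap 𝒱 φ = g) (hhg : bmap 𝒱 (ψ ≫ φ) = h ≫ g)
    (U : (sch 𝒱 x).Opens) (s : D.Fam x U) :
    D.mapFam (ψ ≫ φ) hhg U s =
      (show D.Fam x'' ((h ≫ g) ⁻¹ᵁ U) from D.mapFam ψ hh (g ⁻¹ᵁ U) (D.mapFam φ hg U s)) :=
  fam_ext fun j α e => ev_congr s (Category.assoc α ψ φ).symm _ _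

theorem mapHom_id_app (x : 𝒱.obj) (U : (sch 𝒱 x).Opens) (s : Γ(D.famMod x, U)) :
    (D.mapHom (𝟙 x) (bmap_id x)).app U s = s :=
  (D.secFam x U).injective ((D.secFam_mapHom (𝟙 x) (bmap_id x) U s).trans (D.mapFam_id x U _))

theorem mapHom_comp_app {x'' x' x : 𝒱.obj} (ψ : x'' ⟶ x') (φ : x' ⟶ x) {h : sch 𝒱 x'' ⟶ sch 𝒱 x'}
    {g : sch 𝒱 x' ⟶ sch 𝒱 x} (hh : bmap 𝒱 ψ = h) (hg : bmap 𝒱 φ = g) (hhg : bmap 𝒱 (ψ ≫ φ) = h ≫ g)
    (U : (sch 𝒱 x).Opens) (s : Γ(D.famMod x, U)) :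
    (D.mapHom (ψ ≫ φ) hhg).app U s =
      (show Γ(D.famMod x'', (h ≫ g) ⁻¹ᵁ U) from (D.mapHom ψ hh).app (g ⁻¹ᵁ U) ((D.mapHom φ hg).app U s)) := by
  refine (D.secFam x'' ((h ≫ g) ⁻¹ᵁ U)).injective ?_
  refine (D.secFam_mapHom (ψ ≫ φ) hhg U s).trans ((D.mapFam_comp ψ φ hh hg hhg U _).trans ?_)
  exact ((congrArg (D.mapFam ψ hh (g ⁻¹ᵁ U)) (D.secFam_mapHom φ hg U s)).symm.trans
    (D.secFam_mapHom ψ hh (g ⁻¹ᵁ U) _).symm)

/-- The module of families. -/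
def toMod : Mod 𝒱 where
  obj x := D.famMod x
  map φ _ hg := D.mapHom φ hg
  map_id x := by
    refine Scheme.Modules.hom_ext _ _ fun U => ?_
    ext s
    simp only [Scheme.Modules.Hom.comp_app, Scheme.Modules.pushforwardId_hom_app_app, Category.comp_id]
    exact D.mapHom_id_app x U s
  map_comp {x'' x' x} ψ φ h g hh hg := by
    refine Scheme.Modules.hom_ext _ _ fun U => ?_
    ext s
    simp only [Scheme.Modules.Hom.comp_app, Scheme.Modules.pushforwardComp_hom_app_app,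
      Scheme.Modules.pushforward_map_app]
    exact D.mapHom_comp_app ψ φ hh hg _ U s

theorem secFam_mapTop {x' x : 𝒱.obj} (φ : x' ⟶ x) (s : Sec D.toMod x) :
    D.secFam x' ⊤ (D.toMod.mapTop φ s) = D.mapFam φ rfl ⊤ (D.secFam x ⊤ s) :=
  D.secFam_mapHom φ rfl ⊤ s

end PDatum

end Groth.L23.TwDesc
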